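import Cfsg.Agent.Lib.ProductFusion.Phi

/-!
# Goldschmidt's product fusion theorem

If a Sylow 2-subgroup contains two commuting strongly closed subgroups meeting trivially, their normal
closures commute modulo the odd core.
-/

set_option autoImplicit false

namespace Cfsg.Agent.ProductFusion

open Subgroup
open scoped commutatorElement
open Cfsg (pPrimeCore)
open Cfsg.Agent.Balance

universe u

variable {G : Type u} [Group G] [Finite G] {P : Sylow 2 G} {S T : Subgroup G}

theorem le_normalizer_of_stronglyClosed (hS : Cfsg.IsStronglyClosed S (P : Subgroup G)) :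
    (P : Subgroup G) ≤ normalizer (S : Set G) :=
  le_normalizer_iff.2 fun p hp s hs => hS.2 s hs p (mul_mem (mul_mem hp (hS.1 hs)) (inv_mem hp))

/-- The image of a strongly closed subgroup is strongly closed. -/
theorem stronglyClosed_map {Q : Type*} [Group Q] [Finite Q] (f : G →* Q) (hf : Function.Surjective f)
    (hS : Cfsg.IsStronglyClosed S (P : Subgroup G)) :
    Cfsg.IsStronglyClosed (S.map f) ((P.mapSurjective hf : Sylow 2 Q) : Subgroup Q) := by
  haveI : Fact (Nat.Prime 2) := ⟨Nat.prime_two⟩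
  rw [Sylow.coe_mapSurjective]
  refine ⟨map_mono hS.1, ?_⟩
  rintro _ ⟨s, hs, rfl⟩ c hc
  obtain ⟨g, rfl⟩ := hf c
  rw [← map_inv, ← map_mul, ← map_mul] at hc ⊢
  set L := ((P : Subgroup G).map f).comap f with hL
  have hPL : (P : Subgroup G) ≤ L := le_comap_map _ _
  set y : L := ⟨g * s * g⁻¹, hc⟩
  have hy : IsPGroup 2 (zpowers y) :=
    ((isPGroup_zpowers_of_inS hS (x := g * s * g⁻¹) ((InS.of_mem hs).conj g)).comap_of_injective
      L.subtype L.subtype_injective).to_le (zpowers_le.2 (mem_zpowers (g * s * g⁻¹) : L.subtype y ∈ _))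
  obtain ⟨m, hm⟩ := exists_conj_mem (P := P.subtype hPL) hy
  have hmP : (m : G) * (g * s * g⁻¹) * (m : G)⁻¹ ∈ (P : Subgroup G) := by
    have := hm y (mem_zpowers y)
    rw [Sylow.coe_subtype, mem_subgroupOf] at this
    exact this
  have hmS := mem_of_inS hS hmP (((InS.of_mem hs).conj g).conj _)
  obtain ⟨p, hp, hpe⟩ := (m.2 : f m ∈ (P : Subgroup G).map f)
  have h1 : p⁻¹ * ((m : G) * (g * s * g⁻¹) * (m : G)⁻¹) * p ∈ S := by
    simpa using (mem_normalizer_iff.1 (le_normalizer_of_stronglyClosed hS (inv_mem hp)) _).1 hmS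
  refine ⟨_, h1, ?_⟩
  simp [map_mul, map_inv, hpe, mul_assoc]

theorem Data.map (d : Data P S T) {Q : Type*} [Group Q] [Finite Q] (f : G →* Q) (hf : Function.Surjective f)
    (hdisj : ∀ s ∈ S, ∀ t ∈ T, f s = f t → f s = 1) :
    Data (P.mapSurjective hf) (S.map f) (T.map f) := by
  refine ⟨stronglyClosed_map f hf d.hS, stronglyClosed_map f hf d.hT, ?_, ?_⟩
  · rintro _ ⟨a, ha, rfl⟩ _ ⟨b, hb, rfl⟩
    rw [← map_mul, ← map_mul, d.comm a ha b hb]
  · rw [eq_bot_iff]
    rintro _ ⟨⟨s, hs, rfl⟩, t, ht, he⟩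
    exact mem_bot.2 (hdisj s hs t ht he.symm)

omit [Finite G] in
theorem map_normalClosure_coe {Q : Type*} [Group Q] (f : G →* Q) (hf : Function.Surjective f) (S : Subgroup G) :
    normalClosure ((S.map f : Subgroup Q) : Set Q) = (normalClosure (S : Set G)).map f := by
  rw [Subgroup.coe_map, Subgroup.map_normalClosure _ f hf]

/-- The conclusion for all groups of order less than `n`. -/
def Below (n : ℕ) : Prop :=
  ∀ (H : Type u) [Group H] [Finite H], Nat.card H < n → ∀ (Q : Sylow 2 H) (A B : Subgroup H),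
    Data Q A B → Concl A B

theorem Below.subgroup (ih : Below.{u} (Nat.card G)) (d : Data P S T) (H : Subgroup G) (hH : H ≠ ⊤) :
    ⁅cl S H, cl T H⁆ ≤ core' 2 H := by
  obtain ⟨Q, A, B, hd, hA, hB⟩ := d.restrict H
  have hlt : Nat.card H < Nat.card G := lt_of_le_of_ne (card_le_card_group H)
    fun h => hH (H.eq_top_of_card_eq h)
  rw [← hA, ← hB, ← map_commutator]
  exact map_mono (ih H hlt Q A B hd)

theorem Below.quotient (ih : Below.{u} (Nat.card G)) (d : Data P S T) (N : Subgroup G) [N.Normal]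
    (hN : N ≠ ⊥) (hdisj : ∀ s ∈ S, ∀ t ∈ T, s⁻¹ * t ∈ N → s ∈ N) :
    (⁅normalClosure (S : Set G), normalClosure (T : Set G)⁆).map (QuotientGroup.mk' N) ≤
      pPrimeCore 2 (G ⧸ N) := by
  have hlt : Nat.card (G ⧸ N) < Nat.card G := by
    rw [← Subgroup.index_eq_card, ← N.card_mul_index]
    exact lt_mul_left (Nat.pos_of_ne_zero Subgroup.index_ne_zero_of_finite) ((one_lt_card_iff_ne_bot _).2 hN)
  have h := ih (G ⧸ N) hlt _ _ _ (d.map (QuotientGroup.mk' N) (QuotientGroup.mk'_surjective N)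
    fun s hs t ht he => (QuotientGroup.eq_one_iff s).2 (hdisj s hs t ht (QuotientGroup.eq.1 he)))
  unfold Concl at h
  rw [map_normalClosure_coe _ (QuotientGroup.mk'_surjective N),
    map_normalClosure_coe _ (QuotientGroup.mk'_surjective N), ← map_commutator] at h
  exact h

theorem commute_of_normalClosure {A B : Subgroup G} [A.Normal] (h : B ≤ centralizer (A : Set G)) :
    ⁅A, normalClosure (B : Set G)⁆ = ⊥ :=
  commutator_eq_bot_iff_le_centralizer.2 (le_centralizer_iff.1 (normalClosure_le_normal h))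

/-- A nontrivial normal subgroup inside `S` settles the theorem. -/
theorem of_normal_le (ih : Below.{u} (Nat.card G)) (d : Data P S T) (hcore : pPrimeCore 2 G = ⊥)
    (V : Subgroup G) [V.Normal] (hV : V ≠ ⊥) (hVS : V ≤ S) :
    ⁅normalClosure (S : Set G), normalClosure (T : Set G)⁆ = ⊥ := by
  haveI : Fact (Nat.Prime 2) := ⟨Nat.prime_two⟩
  set π := QuotientGroup.mk' V with hπ
  set X := (pPrimeCore 2 (G ⧸ V)).comap π with hX
  have hle : ⁅normalClosure (S : Set G), normalClosure (T : Set G)⁆ ≤ X :=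
    map_le_iff_le_comap.1 (ih.quotient d V hV fun s hs t ht h => by
      have htS : t ∈ S := by simpa using mul_mem hs (hVS h)
      have ht1 : t = 1 := mem_bot.1 (d.disj ▸ mem_inf.2 ⟨htS, ht⟩)
      subst ht1
      simpa using inv_mem h)
  set C := X ⊓ centralizer (V : Set G) with hC
  haveI : X.Normal := Normal.comap inferInstance π
  haveI : C.Normal := Subgroup.normal_inf_normal X (centralizer (V : Set G))
  -- `C` is trivial modulo `V`
  have hCV : C ≤ V := by
    set Z := (V ⊓ C).subgroupOf C with hZ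
    have hZ2 : IsPGroup 2 Z := (IsPGroup.to_le (P.2.to_le (hVS.trans d.hS.1)) inf_le_left).of_equiv
      (subgroupOfEquivOfLe inf_le_right).symm
    haveI : Z.Normal := Normal.subgroupOf (Subgroup.normal_inf_normal V C) C
    have hZi : Z.index.Coprime 2 := by
      have h1 : Z = V.subgroupOf C := inf_subgroupOf_right V C
      rw [h1]
      show (V.relIndex C).Coprime 2
      have h2 : (C.map π).relIndex ⊤ ≠ 0 := Subgroup.index_ne_zero_of_finite ∘ (relIndex_top_right (C.map π) ▸ ·)
      have h3 : V.relIndex C = Nat.card (C.map π) := by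
        rw [← relIndex_ker, hπ, QuotientGroup.ker_mk']
      rw [h3]
      exact (PCore.coprime_card_pPrimeCore (p := 2) (G := G ⧸ V)).coprime_dvd_left
        (card_dvd_of_le (map_le_iff_le_comap.2 inf_le_left))
    obtain ⟨k, hk⟩ := hZ2.exists_card_eq
    obtain ⟨K, hK⟩ := exists_right_complement'_of_coprime (N := Z) (hk ▸ (hZi.pow_right k).symm)
    have hcentral : ∀ z ∈ Z, ∀ c : C, z * c = c * z := fun z hz c =>
      Subtype.ext (mem_centralizer_iff.1 (mem_inf.1 c.2).2 _ (mem_inf.1 hz).1)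
    haveI : K.Normal := by
      refine normalizer_eq_top_iff.1 (top_le_iff.1 (hK.sup_eq_top ▸ sup_le ?_ le_normalizer))
      exact fun z hz => centralizer_le_normalizer _ (mem_centralizer_iff.2 fun c _ => (hcentral z hz c).symm)
    have hKc : (Nat.card K).Coprime 2 := by rw [← hK.symm.index_eq_card]; exact hZi
    have hK1 : K = ⊥ := by
      rw [eq_bot_iff]
      refine fun c hc => mem_bot.2 (C.subtype_injective ((mem_bot (G := G)).1 ?_))
      rw [← hcore]
      exact core'_le_pPrimeCore_of_isSubnormal (inferInstance : C.Normal).isSubnormal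
        (mem_map_of_mem C.subtype (PCore.le_pPrimeCore hKc hc))
    intro c hc
    have h1 : (⟨c, hc⟩ : C) ∈ Z ⊔ K := hK.sup_eq_top ▸ mem_top _
    rw [hK1, sup_bot_eq] at h1
    exact (mem_inf.1 h1).1
  have hTV : normalClosure (T : Set G) ≤ centralizer (V : Set G) :=
    normalClosure_le_normal fun t ht => mem_centralizer_iff.2 fun v hv => d.comm v (hVS hv) t ht
  refine commute_of_normalClosure fun t ht => mem_centralizer_iff.2 fun a ha => ?_
  set v := ⁅a, t⁆ with hv
  have hvV : v ∈ V := by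
    refine hCV (mem_inf.2 ⟨hle (commutator_mem_commutator ha (subset_normalClosure ht)), hTV ?_⟩)
    exact commutator_le_right (normalClosure (S : Set G)) (normalClosure (T : Set G))
      (commutator_mem_commutator ha (subset_normalClosure ht))
  have hat : a * t * a⁻¹ = v * t := by rw [hv, commutatorElement_def, inv_mul_cancel_right]
  have h1 := d.hT.2 t ht a (hat ▸ mul_mem (d.hS.1 (hVS hvV)) (d.hT.1 ht))
  rw [hat] at h1
  have h2 : v ∈ S ⊓ T := ⟨hVS hvV, by simpa using mul_mem h1 (inv_mem ht)⟩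
  rw [d.disj, mem_bot, hv, commutatorElement_eq_one_iff_mul_comm] at h2
  exact h2

omit [Finite G] in
theorem cl_eq_of_le {H : Subgroup G} (h : normalClosure (T : Set G) ≤ H) :
    normalClosure (T : Set G) ≤ cl T H := by
  rw [normalClosure]
  refine (closure_le _).2 fun x hx => ?_
  refine mem_cl (h (subset_closure hx)) ?_
  obtain ⟨t, ht, hc⟩ := Group.mem_conjugatesOfSet_iff.1 hx
  obtain ⟨c, rfl⟩ := isConj_iff.1 hc
  exact (InS.of_mem ht).conj c

theorem exists_central_inv (hS : Cfsg.IsStronglyClosed S (P : Subgroup G)) (hne : S ≠ ⊥) :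
    ∃ x ∈ S, Inv S x ∧ ∀ p ∈ (P : Subgroup G), Commute p x := by
  haveI : Fact (Nat.Prime 2) := ⟨Nat.prime_two⟩
  set S₀ := S.subgroupOf (P : Subgroup G) with hS₀
  haveI : S₀.Normal := normal_subgroupOf_of_le_normalizer (le_normalizer_of_stronglyClosed hS)
  have hne' : Nontrivial S₀ := (nontrivial_iff_ne_bot _).2 fun h => hne (by
    rw [← map_subgroupOf_eq_of_le hS.1, ← hS₀, h, Subgroup.map_bot])
  have hd : 2 ∣ Nat.card S₀ := by
    obtain ⟨k, hk, hk'⟩ := ((P.2.to_subgroup S₀).nontrivial_iff_card).1 hne'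
    rw [hk']
    exact dvd_pow_self 2 hk.ne'
  -- conjugation by `P` on `S₀` fixes a nontrivial element
  letI : MulAction (P : Subgroup G) S₀ :=
    MulAction.compHom S₀ ((MulAut.conjNormal : (P : Subgroup G) →* MulAut S₀))
  obtain ⟨b, hb, hb1⟩ := P.2.exists_fixed_point_of_prime_dvd_card_of_fixed_point S₀ hd
    (a := 1) fun p => map_one (MulAut.conjNormal p)
  have hbp : ∀ p ∈ (P : Subgroup G), Commute p ((b : (P : Subgroup G)) : G) := fun p hp => by
    have h1 := congrArg (fun z : S₀ => ((z : (P : Subgroup G)) : G)) (hb ⟨p, hp⟩)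
    exact mul_inv_eq_iff_eq_mul.1 h1
  set x₀ := ((b : (P : Subgroup G)) : G)
  have hx₀ : x₀ ≠ 1 := fun h => hb1 (Subtype.ext (Subtype.ext h.symm))
  obtain ⟨n, hn⟩ := P.2.exists_card_eq
  obtain ⟨k, hk⟩ := (Nat.dvd_prime_pow Nat.prime_two).1 (show orderOf x₀ ∣ 2 ^ n from by
    rw [← hn]
    exact Subgroup.orderOf_dvd_natCard _ (hS.1 b.2))
  obtain ⟨j, rfl⟩ : ∃ j, k = j + 1 := Nat.exists_eq_succ_of_ne_zero fun h => hx₀ (orderOf_eq_one_iff.1 (by
    rw [hk.2, h, pow_zero]))
  refine ⟨x₀ ^ 2 ^ j, pow_mem b.2 _, ⟨?_, ?_, InS.of_mem (pow_mem b.2 _)⟩, fun p hp => (hbp p hp).pow_right _⟩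
  · refine fun h => absurd (orderOf_dvd_of_pow_eq_one h) (fun hd => ?_)
    rw [hk.2, Nat.pow_dvd_pow_iff_le_right (by norm_num)] at hd
    omega
  · rw [← pow_add, ← two_mul, ← pow_succ', ← hk.2, pow_orderOf_eq_one]

omit [Finite G] in
theorem mem_center_of_generators {x : G} {A B : Subgroup G} (h : A ⊔ B = ⊤) (hA : ∀ a ∈ A, Commute a x)
    (hB : ∀ b ∈ B, Commute b x) : x ∈ center G := by
  have h1 : (⊤ : Subgroup G) ≤ centralizer ({x} : Set G) := h ▸ sup_le
    (fun a ha => mem_centralizer_singleton_iff.2 (hA a ha).eq) fun b hb => mem_centralizer_singleton_iff.2 (hB b hb).eq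
  exact mem_center_iff.2 fun g => mem_centralizer_singleton_iff.1 (h1 (mem_top g))

theorem eq_bot_of_core_eq_bot (hFT : FTConsumers.OddOrder.{u}) (ih : Below.{u} (Nat.card G))
    (d : Data P S T) (hcore : pPrimeCore 2 G = ⊥) :
    ⁅normalClosure (S : Set G), normalClosure (T : Set G)⁆ = ⊥ := by
  haveI : Fact (Nat.Prime 2) := ⟨Nat.prime_two⟩
  set N₁ := normalClosure (S : Set G) with hN₁
  set N₂ := normalClosure (T : Set G) with hN₂
  rcases eq_or_ne S ⊥ with hS | hS
  · have h : N₁ = ⊥ := by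
      rw [hN₁, hS, coe_bot, eq_bot_iff]
      exact normalClosure_le_normal (le_refl _)
    rw [h, commutator_bot_left]
  rcases eq_or_ne T ⊥ with hT | hT
  · have h : N₂ = ⊥ := by
      rw [hN₂, hT, coe_bot, eq_bot_iff]
      exact normalClosure_le_normal (le_refl _)
    rw [h, commutator_bot_right]
  by_contra hne
  have hnc : ∀ {R : Subgroup G}, (∀ x ∈ R, InS S x → x ∈ S) → ∀ x, Inv S x → x ∈ center G →
      ⁅N₁, N₂⁆ = ⊥ := fun _ x hx hc => by
    obtain ⟨g, hg⟩ := hx.inS
    rw [mem_center_iff.1 hc g, mul_inv_cancel_right] at hg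
    haveI : (zpowers x).Normal := ⟨fun n hn g => by
      obtain ⟨i, rfl⟩ := hn
      have h1 : Commute g x := mem_center_iff.1 hc g
      rw [(h1.zpow_right i).eq, mul_inv_cancel_right]
      exact ⟨i, rfl⟩⟩
    exact of_normal_le ih d hcore (zpowers x) (fun h => hx.ne (zpowers_eq_bot.1 h)) (zpowers_le.2 hg)
  have hncT : ∀ x, Inv T x → x ∉ center G := fun x hx hc => by
    obtain ⟨g, hg⟩ := hx.inS
    rw [mem_center_iff.1 hc g, mul_inv_cancel_right] at hg
    haveI : (zpowers x).Normal := ⟨fun n hn g => by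
      obtain ⟨i, rfl⟩ := hn
      have h1 : Commute g x := mem_center_iff.1 hc g
      rw [(h1.zpow_right i).eq, mul_inv_cancel_right]
      exact ⟨i, rfl⟩⟩
    exact hne (commutator_comm N₁ N₂ ▸
      of_normal_le ih d.symm hcore (zpowers x) (fun h => hx.ne (zpowers_eq_bot.1 h)) (zpowers_le.2 hg))
  obtain ⟨a, haS, ha, haP⟩ := exists_central_inv d.hS hS
  obtain ⟨b, hbT, hb, hbP⟩ := exists_central_inv d.hT hT
  have M : Min P S T :=
    ⟨d, hFT, hcore, fun H hH => ih.subgroup d H hH,
      fun x hx hc => hne (hnc (R := S) (fun _ h _ => h) x hx hc), hncT, ⟨a, ha⟩, ⟨b, hb⟩⟩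
  -- `G = P N₂`
  have hPN : (P : Subgroup G) ⊔ N₂ = ⊤ := by
    by_contra hH
    have h1 : ⁅S, N₂⁆ ≤ core' 2 ((P : Subgroup G) ⊔ N₂) ⊓ N₂ := le_inf
      ((commutator_mono (le_cl_of_le (d.hS.1.trans le_sup_left) fun x hx => InS.of_mem hx)
        (cl_eq_of_le le_sup_right)).trans (M.ih _ hH)) (commutator_le_right _ _)
    have h2 : ⁅N₂, S⁆ = ⊥ := by
      rw [commutator_comm, eq_bot_iff, ← hcore]
      exact h1.trans ((core'_inf_le le_sup_right).trans
        (core'_le_pPrimeCore_of_isSubnormal (normalClosure_normal (s := (T : Set G))).isSubnormal))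
    exact hne (commutator_comm N₂ N₁ ▸ commute_of_normalClosure
      (le_centralizer_iff.1 (commutator_eq_bot_iff_le_centralizer.1 h2)))
  set J := closure {x | Inv S x} with hJ
  haveI hJn : J.Normal := ⟨fun n hn g => by
    induction hn using closure_induction with
    | mem x hx => exact subset_closure (hx.conj g)
    | one => simp
    | mul y z _ _ iy iz => simpa [mul_assoc] using mul_mem iy iz
    | inv y _ iy => simpa [mul_assoc] using inv_mem iy⟩
  have hJb : ∀ x ∈ J, Commute x b := fun x hx => mem_centralizer_singleton_iff.1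
    ((closure_le (centralizer ({b} : Set G))).2 (fun z hz =>
      mem_centralizer_singleton_iff.2 (M.commute hz hb).eq) hx)
  by_cases hH : (P : Subgroup G) ⊔ J = ⊤
  · exact M.ncT b hb (mem_center_of_generators hH hbP hJb)
  refine M.ncS a ha (mem_center_of_generators hPN haP ?_)
  have h1 : ⁅J, T⁆ ≤ core' 2 ((P : Subgroup G) ⊔ J) ⊓ J := le_inf
    ((commutator_mono ((closure_le _).2 fun x hx => mem_cl (mem_sup_right (subset_closure hx)) hx.inS)
      (le_cl_of_le (d.hT.1.trans le_sup_left) fun x hx => InS.of_mem hx)).trans (M.ih _ hH))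
    (commutator_le_left _ _)
  have h2 : ⁅J, T⁆ = ⊥ := by
    rw [eq_bot_iff, ← hcore]
    exact h1.trans ((core'_inf_le le_sup_right).trans (core'_le_pPrimeCore_of_isSubnormal hJn.isSubnormal))
  have h3 : N₂ ≤ centralizer (J : Set G) :=
    normalClosure_le_normal (le_centralizer_iff.1 (commutator_eq_bot_iff_le_centralizer.1 h2))
  exact fun x hx => (mem_centralizer_iff.1 (h3 hx) a (subset_closure ha)).symm

theorem below (hFT : FTConsumers.OddOrder.{u}) : ∀ n, Below.{u} n := by
  intro n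
  induction n using Nat.strong_induction_on with
  | _ n ih =>
    intro H _ _ hlt Q A B d
    have ihH : Below.{u} (Nat.card H) := ih (Nat.card H) hlt
    haveI : Fact (Nat.Prime 2) := ⟨Nat.prime_two⟩
    show _ ≤ pPrimeCore 2 H
    by_cases hcore : pPrimeCore 2 H = ⊥
    · exact (eq_bot_of_core_eq_bot hFT ihH d hcore).le.trans bot_le
    have h := ihH.quotient d (pPrimeCore 2 H) hcore fun s hs t ht h => by
      have h1 : s⁻¹ * t ∈ pPrimeCore 2 H ⊓ (Q : Subgroup H) :=
        mem_inf.2 ⟨h, (Q : Subgroup H).mul_mem ((Q : Subgroup H).inv_mem (d.hS.1 hs)) (d.hT.1 ht)⟩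
      have hd : pPrimeCore 2 H ⊓ (Q : Subgroup H) = ⊥ := disjoint_iff.1
        (PCore.disjoint_of_isPGroup_of_coprime Q.2 PCore.coprime_card_pPrimeCore).symm
      rw [hd, mem_bot, inv_mul_eq_one] at h1
      subst h1
      have hs1 : s ∈ A ⊓ B := mem_inf.2 ⟨hs, ht⟩
      rw [d.disj, mem_bot] at hs1
      rw [hs1]
      exact one_mem _
    rw [PCore.pPrimeCore_quotient_self_eq_bot, le_bot_iff, Subgroup.map_eq_bot_iff, QuotientGroup.ker_mk'] at h
    exact h

/-- **Goldschmidt's product fusion theorem**. -/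
theorem commutator_le (hFT : FTConsumers.OddOrder.{u}) (d : Data P S T) :
    ⁅normalClosure (S : Set G), normalClosure (T : Set G)⁆ ≤ Cfsg.oddCore G :=
  below hFT (Nat.card G + 1) G (Nat.lt_succ_self _) P S T d

end Cfsg.Agent.ProductFusion
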