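import Cfsg.Prelude.Def_TwoFusion
import Cfsg.Prelude.Def_CaseTheorems
import Cfsg.Agent.Lib.PCore.Basic
import Cfsg.Agent.Lib.Balance.Components

/-!
# Two commuting strongly closed 2-subgroups with trivial intersection: fusion bookkeeping

`InS S x` says that `x` is conjugate into `S`; `cl S H` is the subgroup generated by such elements of `H`.
-/

set_option autoImplicit false

namespace Cfsg.Agent.ProductFusion

open Subgroup
open scoped Pointwise

universe u

variable {G : Type u} [Group G]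

/-- `x` is conjugate into `S`. -/
def InS (S : Subgroup G) (x : G) : Prop := ∃ g : G, g * x * g⁻¹ ∈ S

/-- The subgroup generated by the elements of `H` conjugate into `S`. -/
def cl (S H : Subgroup G) : Subgroup G := closure {x | x ∈ H ∧ InS S x}

theorem InS.of_mem {S : Subgroup G} {x : G} (hx : x ∈ S) : InS S x := ⟨1, by simpa using hx⟩

theorem InS.conj {S : Subgroup G} {x : G} (hx : InS S x) (g : G) : InS S (g * x * g⁻¹) := by
  obtain ⟨c, hc⟩ := hx
  exact ⟨c * g⁻¹, by simpa [mul_assoc] using hc⟩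

theorem InS.inv {S : Subgroup G} {x : G} (hx : InS S x) : InS S x⁻¹ := by
  obtain ⟨c, hc⟩ := hx
  exact ⟨c, by simpa [mul_assoc] using inv_mem hc⟩

theorem InS.conj' {S : Subgroup G} {x : G} (hx : InS S x) (g : G) : InS S (g⁻¹ * x * g) := by
  simpa using hx.conj g⁻¹

theorem mem_cl {S H : Subgroup G} {x : G} (hx : x ∈ H) (hxS : InS S x) : x ∈ cl S H :=
  subset_closure ⟨hx, hxS⟩

theorem cl_le (S H : Subgroup G) : cl S H ≤ H := (closure_le _).2 fun _ hx => hx.1

theorem le_cl_of_le {S A H : Subgroup G} (hA : A ≤ H) (h : ∀ x ∈ A, InS S x) : A ≤ cl S H :=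
  fun x hx => mem_cl (hA hx) (h x hx)

theorem le_normalizer_cl (S H : Subgroup G) : H ≤ normalizer (cl S H : Set G) := by
  rw [le_normalizer_iff]
  intro h hh x hx
  induction hx using closure_induction with
  | mem y hy => exact mem_cl (H.mul_mem (H.mul_mem hh hy.1) (H.inv_mem hh)) (hy.2.conj h)
  | one => simp
  | mul y z _ _ iy iz => simpa [mul_assoc] using mul_mem iy iz
  | inv y _ iy => simpa [mul_assoc] using inv_mem iy

/-- Two commuting subgroups of a Sylow 2-subgroup, each strongly closed, with trivial intersection. -/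
structure Data (P : Sylow 2 G) (S T : Subgroup G) : Prop where
  hS : Cfsg.IsStronglyClosed S (P : Subgroup G)
  hT : Cfsg.IsStronglyClosed T (P : Subgroup G)
  comm : ∀ a ∈ S, ∀ b ∈ T, a * b = b * a
  disj : S ⊓ T = ⊥

variable {P : Sylow 2 G} {S T : Subgroup G}

theorem Data.symm (d : Data P S T) : Data P T S :=
  ⟨d.hT, d.hS, fun a ha b hb => (d.comm b hb a ha).symm, by rw [inf_comm]; exact d.disj⟩

theorem mem_of_inS (hS : Cfsg.IsStronglyClosed S (P : Subgroup G)) {x : G}
    (hxP : x ∈ (P : Subgroup G)) (hx : InS S x) : x ∈ S := by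
  obtain ⟨g, hg⟩ := hx
  have := hS.2 _ hg g⁻¹ (by simpa [mul_assoc] using hxP)
  simpa [mul_assoc] using this

theorem isPGroup_zpowers_of_inS (hS : Cfsg.IsStronglyClosed S (P : Subgroup G)) {x : G} (hx : InS S x) :
    IsPGroup 2 (zpowers x) := by
  obtain ⟨g, hg⟩ := hx
  have h1 : (zpowers x).map (MulAut.conj g).toMonoidHom ≤ (P : Subgroup G) := by
    rw [MonoidHom.map_zpowers, zpowers_le]
    exact hS.1 hg
  refine ((P.2.to_le h1).of_equiv ?_)
  exact ((zpowers x).equivMapOfInjective _ (MulEquiv.injective (MulAut.conj g))).symm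

theorem exists_conj_mem [Finite G] {Q : Subgroup G} (hQ : IsPGroup 2 Q) :
    ∃ g : G, ∀ x ∈ Q, g * x * g⁻¹ ∈ (P : Subgroup G) := by
  haveI : Fact (Nat.Prime 2) := ⟨Nat.prime_two⟩
  obtain ⟨R, hR⟩ := hQ.exists_le_sylow
  obtain ⟨g, hg⟩ := MulAction.exists_smul_eq G R P
  refine ⟨g, fun x hx => ?_⟩
  rw [← hg, Sylow.coe_subgroup_smul]
  exact mem_map_of_mem (MulAut.conj g).toMonoidHom (hR hx) |> fun h => by
    simpa [Subgroup.pointwise_smul_def] using h

variable [Finite G]

theorem Data.commute (d : Data P S T) {Q : Subgroup G} (hQ : IsPGroup 2 Q) {x y : G} (hx : x ∈ Q)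
    (hy : y ∈ Q) (hxS : InS S x) (hyT : InS T y) : Commute x y := by
  obtain ⟨g, hg⟩ := exists_conj_mem (P := P) hQ
  have h := d.comm _ (mem_of_inS d.hS (hg x hx) (hxS.conj g)) _ (mem_of_inS d.hT (hg y hy) (hyT.conj g))
  refine (MulEquiv.injective (MulAut.conj g)) (?_ : MulAut.conj g (x * y) = MulAut.conj g (y * x))
  simpa [MulAut.conj_apply, mul_assoc] using h

theorem Data.eq_one (d : Data P S T) {x : G} (hxS : InS S x) (hxT : InS T x) : x = 1 := by
  obtain ⟨g, hg⟩ := exists_conj_mem (P := P) (isPGroup_zpowers_of_inS d.hS hxS)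
  have hx := hg x (mem_zpowers x)
  have h : g * x * g⁻¹ ∈ S ⊓ T :=
    ⟨mem_of_inS d.hS hx (hxS.conj g), mem_of_inS d.hT hx (hxT.conj g)⟩
  rw [d.disj, mem_bot, mul_inv_eq_one] at h
  exact mul_left_cancel (h.trans (mul_one g).symm)

theorem inS_mul (hS : Cfsg.IsStronglyClosed S (P : Subgroup G)) {Q : Subgroup G} (hQ : IsPGroup 2 Q)
    {x y : G} (hx : x ∈ Q) (hy : y ∈ Q) (hxS : InS S x) (hyS : InS S y) : InS S (x * y) := by
  obtain ⟨g, hg⟩ := exists_conj_mem (P := P) hQ
  refine ⟨g, ?_⟩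
  have := S.mul_mem (mem_of_inS hS (hg x hx) (hxS.conj g)) (mem_of_inS hS (hg y hy) (hyS.conj g))
  simpa [mul_assoc] using this

/-- The conclusion of the product fusion theorem. -/
def Concl (S T : Subgroup G) : Prop :=
  ⁅normalClosure (S : Set G), normalClosure (T : Set G)⁆ ≤ Cfsg.oddCore G

theorem mem_normalClosure_of_inS {x : G} (hx : InS S x) : x ∈ normalClosure (S : Set G) := by
  obtain ⟨g, hg⟩ := hx
  have := Subgroup.normalClosure_normal.conj_mem _ (subset_normalClosure (s := (S : Set G)) hg) g⁻¹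
  simpa [mul_assoc] using this

theorem cl_top (S : Subgroup G) : cl S ⊤ = normalClosure (S : Set G) := by
  refine le_antisymm ((closure_le _).2 fun x hx => mem_normalClosure_of_inS hx.2) ?_
  haveI : (cl S ⊤).Normal := normalizer_eq_top_iff.1 (top_le_iff.1 (le_normalizer_cl S ⊤))
  exact normalClosure_le_normal fun x hx => mem_cl trivial (InS.of_mem hx)

/-- The data induced on a subgroup. -/
theorem Data.restrict (d : Data P S T) (H : Subgroup G) :
    ∃ (Q : Sylow 2 H) (S' T' : Subgroup H), Data Q S' T' ∧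
      (normalClosure (S' : Set H)).map H.subtype = cl S H ∧
      (normalClosure (T' : Set H)).map H.subtype = cl T H := by
  haveI : Fact (Nat.Prime 2) := ⟨Nat.prime_two⟩
  obtain ⟨Q⟩ : Nonempty (Sylow 2 H) := inferInstance
  obtain ⟨g, hg⟩ := exists_conj_mem (P := P) (Q.2.map H.subtype)
  let f : H →* G := ((MulAut.conj g).toMonoidHom).comp H.subtype
  have hf : ∀ x : H, f x = g * (x : G) * g⁻¹ := fun x => rfl
  have hQP : ∀ x ∈ (Q : Subgroup H), f x ∈ (P : Subgroup G) := fun x hx =>
    hg _ (mem_map_of_mem H.subtype hx)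
  let S' : Subgroup H := (Q : Subgroup H) ⊓ S.comap f
  let T' : Subgroup H := (Q : Subgroup H) ⊓ T.comap f
  have key : ∀ {A : Subgroup G}, Cfsg.IsStronglyClosed A (P : Subgroup G) →
      Cfsg.IsStronglyClosed ((Q : Subgroup H) ⊓ A.comap f) (Q : Subgroup H) ∧
        (normalClosure (((Q : Subgroup H) ⊓ A.comap f : Subgroup H) : Set H)).map H.subtype = cl A H := by
    intro A hA
    have hmem : ∀ x ∈ (Q : Subgroup H), InS A (x : G) → x ∈ (Q : Subgroup H) ⊓ A.comap f :=
      fun x hx hxA => ⟨hx, mem_of_inS hA (hQP x hx) (hxA.conj g)⟩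
    have hin : ∀ x ∈ (Q : Subgroup H) ⊓ A.comap f, InS A (x : G) := fun x hx => ⟨g, hx.2⟩
    refine ⟨⟨inf_le_left, fun x hx h hh => hmem _ hh ?_⟩, le_antisymm ?_ ?_⟩
    · simpa using (hin x hx).conj (h : G)
    · rw [map_le_iff_le_comap]
      haveI : ((cl A H).comap H.subtype).Normal :=
        normal_subgroupOf_of_le_normalizer (le_normalizer_cl A H)
      exact normalClosure_le_normal fun x hx => mem_cl x.2 (hin x hx)
    · refine (closure_le _).2 fun x hx => ?_
      have h2 : IsPGroup 2 (zpowers (⟨x, hx.1⟩ : H)) :=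
        ((isPGroup_zpowers_of_inS hA hx.2).comap_of_injective H.subtype H.subtype_injective).to_le
          (zpowers_le.2 (mem_zpowers x : H.subtype ⟨x, hx.1⟩ ∈ zpowers x))
      obtain ⟨c, hc⟩ := exists_conj_mem (P := Q) h2
      have hn := Subgroup.normalClosure_normal.conj_mem _ (subset_normalClosure
        (hmem _ (hc _ (mem_zpowers _)) (by simpa using hx.2.conj (c : G)))) c⁻¹
      exact ⟨_, hn, by simp [mul_assoc]⟩
  refine ⟨Q, S', T', ⟨(key d.hS).1, (key d.hT).1, fun a ha b hb => ?_, ?_⟩, (key d.hS).2, (key d.hT).2⟩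
  · have h := d.commute (P.2) (x := f a) (y := f b) (hQP a ha.1) (hQP b hb.1) (InS.of_mem ha.2)
      (InS.of_mem hb.2)
    exact ((MulEquiv.injective (MulAut.conj g)).comp H.subtype_injective) (by
      simpa [f, map_mul] using h.eq)
  · refine (eq_bot_iff_forall _).2 fun x hx => ?_
    have h : f x ∈ S ⊓ T := ⟨hx.1.2, hx.2.2⟩
    rw [d.disj, mem_bot] at h
    exact H.subtype_injective ((MulEquiv.injective (MulAut.conj g)) (by simpa [f] using h))

end Cfsg.Agent.ProductFusion
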