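import Cfsg.Agent.Lib.ProductFusion.Basic
import Cfsg.Agent.Lib.Coprime.Basic

/-!
# Involutions and four-groups inside a strongly closed subgroup; the dihedral lemma
-/

set_option autoImplicit false

namespace Cfsg.Agent.ProductFusion

open Subgroup
open scoped Pointwise

universe u

variable {G : Type u} [Group G]

/-- An involution conjugate into `S`. -/
structure Inv (S : Subgroup G) (x : G) : Prop where
  ne : x ≠ 1
  sq : x * x = 1
  inS : InS S x

theorem Inv.inv_eq {S : Subgroup G} {x : G} (h : Inv S x) : x⁻¹ = x := inv_eq_of_mul_eq_one_left h.sq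

theorem Inv.conj {S : Subgroup G} {x : G} (h : Inv S x) (g : G) : Inv S (g * x * g⁻¹) := by
  refine ⟨fun he => h.ne (mul_left_cancel ((mul_inv_eq_one.1 he).trans (mul_one g).symm)), ?_, h.inS.conj g⟩
  simp [mul_assoc, ← mul_assoc x x, h.sq]

/-- A four-group all of whose elements are conjugate into `S`. -/
structure Four (S U : Subgroup G) : Prop where
  el : Cfsg.IsElementaryAbelian 2 U
  card : Nat.card U = 4
  inS : ∀ u ∈ U, InS S u

theorem Four.inv {S U : Subgroup G} (h : Four S U) {u : G} (hu : u ∈ U) (hu1 : u ≠ 1) : Inv S u :=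
  ⟨hu1, by rw [← sq]; exact h.el.2 u hu, h.inS u hu⟩

theorem Four.commute {S U : Subgroup G} (h : Four S U) {u v : G} (hu : u ∈ U) (hv : v ∈ U) : Commute u v :=
  congrArg Subtype.val (h.el.1.is_comm.comm (⟨u, hu⟩ : U) ⟨v, hv⟩)

theorem Four.isPGroup {S U : Subgroup G} (h : Four S U) : IsPGroup 2 U :=
  fun x => ⟨1, Subtype.ext (by simpa using h.el.2 _ x.2)⟩

theorem Four.exists_ne {S U : Subgroup G} (h : Four S U) (x : G) : ∃ u ∈ U, u ≠ 1 ∧ u ≠ x := by
  by_contra hno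
  push Not at hno
  haveI : Finite U := Nat.finite_of_card_ne_zero (by rw [h.card]; norm_num)
  have h1 : (U : Set G).ncard ≤ ({1, x} : Set G).ncard := by
    refine Set.ncard_le_ncard (fun u hu => ?_) (Set.toFinite _)
    rcases eq_or_ne u 1 with h1 | h1
    · exact Or.inl h1
    · exact Or.inr (hno u hu h1)
  rw [← Nat.card_coe_set_eq] at h1
  have h2 := h1.trans (Set.ncard_insert_le _ _)
  rw [Set.ncard_singleton] at h2
  have h3 : Nat.card U ≤ 2 := h2
  rw [h.card] at h3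
  omega

/-- The four-group of two commuting involutions. -/
def fourGroup {a b : G} (ha : a * a = 1) (hb : b * b = 1) (hab : a * b = b * a) : Subgroup G where
  carrier := {1, a, b, a * b}
  one_mem' := Or.inl rfl
  mul_mem' := by
    intro x y hx hy
    simp only [Set.mem_insert_iff, Set.mem_singleton_iff] at hx hy ⊢
    have e1 : a * (a * b) = b := by rw [← mul_assoc, ha, one_mul]
    have e2 : b * (a * b) = a := by rw [hab, ← mul_assoc, hb, one_mul]
    have e3 : a * b * b = a := by rw [mul_assoc, hb, mul_one]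
    have e4 : a * b * a = b := by rw [mul_assoc, ← hab, e1]
    have e5 : a * b * (a * b) = 1 := by rw [← mul_assoc, e4, hb]
    rcases hx with rfl | rfl | rfl | rfl <;> rcases hy with rfl | rfl | rfl | rfl <;>
      simp [ha, hb, e1, e2, e3, e4, e5, ← hab]
  inv_mem' := by
    intro x hx
    simp only [Set.mem_insert_iff, Set.mem_singleton_iff] at hx ⊢
    have ha' := inv_eq_of_mul_eq_one_left ha
    have hb' := inv_eq_of_mul_eq_one_left hb
    rcases hx with rfl | rfl | rfl | rfl <;> simp [mul_inv_rev, ha', hb', ← hab]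

theorem mem_fourGroup {a b x : G} {ha : a * a = 1} {hb : b * b = 1} {hab : a * b = b * a} :
    x ∈ fourGroup ha hb hab ↔ x = 1 ∨ x = a ∨ x = b ∨ x = a * b := Iff.rfl

variable [Finite G] {P : Sylow 2 G} {S T : Subgroup G}

theorem four_fourGroup (hS : Cfsg.IsStronglyClosed S (P : Subgroup G)) {a b : G} (ha : Inv S a) (hb : Inv S b)
    (hab : a * b = b * a) (hne : a ≠ b) : Four S (fourGroup ha.sq hb.sq hab) := by
  set U := fourGroup ha.sq hb.sq hab
  have hsq : ∀ x ∈ U, x ^ 2 = 1 := by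
    intro x hx
    rw [sq]
    rcases mem_fourGroup.1 hx with rfl | rfl | rfl | rfl
    · exact mul_one 1
    · exact ha.sq
    · exact hb.sq
    · rw [mul_assoc, ← mul_assoc b, ← hab, mul_assoc a b, hb.sq, mul_one, ha.sq]
  have hP : IsPGroup 2 U := fun x => ⟨1, Subtype.ext (by simpa using hsq _ x.2)⟩
  have hcomm : ∀ x ∈ U, ∀ y ∈ U, x * y = y * x := by
    intro x hx y hy
    have h := hsq _ (mul_mem hx hy)
    have hi : ∀ z ∈ U, z⁻¹ = z := fun z hz => inv_eq_of_mul_eq_one_left (by rw [← sq]; exact hsq z hz)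
    rw [sq] at h
    calc x * y = (x * y)⁻¹ := (inv_eq_of_mul_eq_one_left h).symm
      _ = y * x := by rw [mul_inv_rev, hi x hx, hi y hy]
  refine ⟨⟨⟨⟨fun x y => Subtype.ext (hcomm x x.2 y y.2)⟩⟩, hsq⟩, ?_, ?_⟩
  · have h1 : a * b ≠ 1 := fun h => hne ((eq_inv_of_mul_eq_one_left h).trans hb.inv_eq)
    have h2 : a * b ≠ a := fun h => hb.ne (mul_left_cancel (h.trans (mul_one a).symm))
    have h3 : a * b ≠ b := fun h => ha.ne (mul_right_cancel (h.trans (one_mul b).symm))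
    show Nat.card ({1, a, b, a * b} : Set G) = 4
    rw [Nat.card_coe_set_eq, Set.ncard_insert_of_notMem (by simp [ha.ne.symm, hb.ne.symm, h1.symm]),
      Set.ncard_insert_of_notMem (by simp [hne, h2.symm]), Set.ncard_pair h3.symm]
  · intro x hx
    rcases mem_fourGroup.1 hx with rfl | rfl | rfl | rfl
    · exact InS.of_mem (one_mem S)
    · exact ha.inS
    · exact hb.inS
    · exact inS_mul hS hP (mem_fourGroup.2 (Or.inr (Or.inl rfl)))
        (mem_fourGroup.2 (Or.inr (Or.inr (Or.inl rfl)))) ha.inS hb.inS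

/-- Each element of a two-group conjugate into `S` lies in a four-group of `S`, if `S` has one,
commuting with the elements conjugate into `T`. -/
theorem Data.exists_four (d : Data P S T) {a b : G} (ha : Inv S a) (hb : Inv S b) (hab : a * b = b * a)
    (hne : a ≠ b) {Q : Subgroup G} (hQ : IsPGroup 2 Q) {x : G} (hxQ : x ∈ Q) (hx : Inv S x) :
    ∃ U, Four S U ∧ x ∈ U ∧ ∀ y ∈ Q, InS T y → ∀ u ∈ U, Commute u y := by
  -- two commuting involutions in `S`
  obtain ⟨g₀, hg₀⟩ := exists_conj_mem (P := P) (four_fourGroup d.hS ha hb hab hne).isPGroup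
  have ha₀ : g₀ * a * g₀⁻¹ ∈ S :=
    mem_of_inS d.hS (hg₀ a (mem_fourGroup.2 (Or.inr (Or.inl rfl)))) (ha.inS.conj _)
  have hb₀ : g₀ * b * g₀⁻¹ ∈ S :=
    mem_of_inS d.hS (hg₀ b (mem_fourGroup.2 (Or.inr (Or.inr (Or.inl rfl))))) (hb.inS.conj _)
  obtain ⟨g, hg⟩ := exists_conj_mem (P := P) hQ
  set x₀ := g * x * g⁻¹ with hx₀
  have hx₀S : x₀ ∈ S := mem_of_inS d.hS (hg x hxQ) (hx.inS.conj _)
  obtain ⟨z, hzS, hz, hzne, hzx⟩ : ∃ z ∈ S, Inv S z ∧ z ≠ x₀ ∧ z * x₀ = x₀ * z := by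
    haveI : Fact (Nat.Prime 2) := ⟨Nat.prime_two⟩
    have hSP : IsPGroup 2 S := P.2.to_le d.hS.1
    haveI : Nontrivial S := S.nontrivial_iff_ne_bot.2 fun h => (hx.conj g).ne (mem_bot.1 (h ▸ hx₀S))
    haveI := hSP.center_nontrivial
    obtain ⟨k, hk, hk'⟩ := ((hSP.to_subgroup (center S)).nontrivial_iff_card).1 inferInstance
    obtain ⟨c, hc⟩ := exists_prime_orderOf_dvd_card' 2 (G := center S) (by rw [hk']; exact dvd_pow_self 2 hk.ne')
    have hc2 : ((c : S) : G) * ((c : S) : G) = 1 := by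
      rw [← sq, ← hc, ← Subgroup.coe_pow, ← Subgroup.coe_pow, pow_orderOf_eq_one]
      rfl
    have hc1 : ((c : S) : G) ≠ 1 := fun h => by
      have h2 : c = 1 := Subtype.ext (Subtype.ext h)
      simp [h2] at hc
    have hcS : ∀ s ∈ S, ((c : S) : G) * s = s * ((c : S) : G) := fun s hs =>
      congrArg Subtype.val (mem_center_iff.1 c.2 ⟨s, hs⟩).symm
    by_cases hcx : ((c : S) : G) = x₀
    · rcases eq_or_ne (g₀ * a * g₀⁻¹) x₀ with he | he
      · refine ⟨_, hb₀, hb.conj g₀, fun h => hne ?_, ?_⟩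
        · simpa using he.trans h.symm
        · rw [← hcx]
          exact (hcS _ hb₀).symm
      · refine ⟨_, ha₀, ha.conj g₀, he, ?_⟩
        rw [← hcx]
        exact (hcS _ ha₀).symm
    · exact ⟨_, (c : S).2, ⟨hc1, hc2, InS.of_mem (c : S).2⟩, hcx, hcS _ hx₀S⟩
  have hx' : g⁻¹ * x₀ * g⁻¹⁻¹ = x := by simp [hx₀, mul_assoc]
  have hne' : g⁻¹ * z * g⁻¹⁻¹ ≠ x := fun h => hzne (by
    rw [hx₀, ← h]
    simp [mul_assoc])
  have hcomm : x * (g⁻¹ * z * g⁻¹⁻¹) = (g⁻¹ * z * g⁻¹⁻¹) * x := by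
    have h1 := congrArg (fun w => g⁻¹ * w * g⁻¹⁻¹) hzx
    rw [← hx']
    simpa [mul_assoc] using h1.symm
  refine ⟨_, four_fourGroup d.hS hx (hz.conj g⁻¹) hcomm hne'.symm, mem_fourGroup.2 (Or.inr (Or.inl rfl)),
    fun y hy hyT u hu => ?_⟩
  have hyT₀ : g * y * g⁻¹ ∈ T := mem_of_inS d.hT (hg y hy) (hyT.conj g)
  have hmem : ∀ s ∈ S, Commute (g⁻¹ * s * g⁻¹⁻¹) y := fun s hs => by
    have h1 : Commute (MulAut.conj g⁻¹ s) (MulAut.conj g⁻¹ (g * y * g⁻¹)) :=
      Commute.map (d.comm s hs _ hyT₀) (MulAut.conj g⁻¹)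
    simpa [MulAut.conj_apply, mul_assoc] using h1
  rcases mem_fourGroup.1 hu with rfl | rfl | rfl | rfl
  · exact Commute.one_left y
  · exact hx' ▸ hmem x₀ hx₀S
  · exact hmem z hzS
  · exact (hx' ▸ hmem x₀ hx₀S).mul_left (hmem z hzS)

theorem isPGroup_sup {A B : Subgroup G} (hA : IsPGroup 2 A) (hB : IsPGroup 2 B)
    (h : ∀ a ∈ A, ∀ b ∈ B, Commute a b) : IsPGroup 2 (A ⊔ B : Subgroup G) :=
  hA.to_sup_of_normal_right' hB fun a ha => centralizer_le_normalizer _
    (mem_centralizer_iff.2 fun b hb => (h a ha b hb).eq.symm)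

omit [Finite G] in
theorem isPGroup_zpowers_of_sq {x : G} (hx : x * x = 1) : IsPGroup 2 (zpowers x) := by
  intro z
  obtain ⟨i, hi⟩ := z.2
  refine ⟨1, Subtype.ext ?_⟩
  show (z : G) ^ (2 ^ 1) = 1
  rw [← hi, pow_one, ← zpow_natCast, ← zpow_mul, mul_comm, zpow_mul, zpow_natCast, sq, hx, one_zpow]

/-- Commuting involutions conjugate into `S` and `T` are distinct. -/
theorem Data.ne (d : Data P S T) {x y : G} (hx : Inv S x) (hy : Inv T y) : x ≠ y :=
  fun h => hx.ne (d.eq_one hx.inS (h ▸ hy.inS))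

/-- The dihedral lemma: two involutions conjugate into `S` and `T` have a product of order twice odd. -/
theorem Data.dihedral (d : Data P S T) {x y : G} (hx : Inv S x) (hy : Inv T y) :
    ∃ r ∈ zpowers ((x * y) ^ 2), ∃ n : ℕ, Odd n ∧ ((x * y) ^ 2) ^ n = 1 ∧
      r * x * r⁻¹ * y = (x * y) ^ n ∧ Commute (r * x * r⁻¹) y := by
  haveI : Fact (Nat.Prime 2) := ⟨Nat.prime_two⟩
  set u := x * y with hu
  have hxu : x * u * x⁻¹ = u⁻¹ := by
    rw [hu, mul_inv_rev, hx.inv_eq, hy.inv_eq, ← mul_assoc, hx.sq, one_mul]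
  obtain ⟨k, n, hn, hm⟩ := Nat.exists_eq_two_pow_mul_odd (n := orderOf u) (orderOf_pos u).ne'
  obtain ⟨i, rfl⟩ := hn
  set j := i * i + i
  set r := (u ^ 2) ^ j with hr
  set t := u ^ ((2 * i + 1) * (2 * i + 1)) with ht
  have hxr : r * x = x * r⁻¹ := by
    have h1 : x * r * x⁻¹ = r⁻¹ := by
      rw [hr, ← conj_pow, ← conj_pow, hxu, inv_pow, inv_pow]
    have h3 := congrArg (fun w => x⁻¹ * w * x) h1
    simp only [mul_assoc, inv_mul_cancel, mul_one, inv_mul_cancel_left] at h3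
    rw [hx.inv_eq] at h3
    calc r * x = x * (r⁻¹ * x) * x := by rw [← h3]
      _ = x * r⁻¹ := by rw [mul_assoc, mul_assoc r⁻¹, hx.sq, mul_one]
  have hxr' : x * r⁻¹ = r * x := hxr.symm
  have e : r * x * r⁻¹ * y = t := by
    rw [mul_assoc r x, hxr', ← mul_assoc, mul_assoc (r * r) x y, ← hu, hr, ht, ← pow_add, ← pow_mul,
      ← pow_succ]
    congr 1
    ring
  -- the two involutions generate a 2-group
  have ht2 : IsPGroup 2 (zpowers t) := by
    refine IsPGroup.of_card (n := k) ?_ |>.to_le (?_ : zpowers t ≤ zpowers (u ^ (2 * i + 1)))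
    · rw [Nat.card_zpowers, orderOf_pow' u (by omega), hm, Nat.gcd_mul_left_left,
        Nat.mul_div_cancel _ (by omega)]
    · rw [zpowers_le, ht, pow_mul]
      exact pow_mem (mem_zpowers _) _
  have hyu : y * u * y⁻¹ = u⁻¹ := by
    rw [hu, mul_inv_rev, hx.inv_eq, hy.inv_eq, mul_assoc y, mul_assoc x, hy.sq, mul_one]
  have hQ : IsPGroup 2 (zpowers y ⊔ zpowers t : Subgroup G) := by
    refine (isPGroup_zpowers_of_sq hy.sq).to_sup_of_normal_right' ht2 ?_
    rw [zpowers_le, mem_normalizer_iff_map_conj_eq, MonoidHom.map_zpowers]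
    show zpowers (y * t * y⁻¹) = zpowers t
    rw [ht, ← conj_pow, hyu, inv_pow, zpowers_inv]
  have hx'Q : r * x * r⁻¹ ∈ (zpowers y ⊔ zpowers t : Subgroup G) := by
    have h1 : r * x * r⁻¹ = t * y := by rw [← e, mul_assoc (r * x * r⁻¹) y, hy.sq, mul_one]
    rw [h1]
    exact mul_mem (mem_sup_right (mem_zpowers _)) (mem_sup_left (mem_zpowers _))
  have hcom := d.commute hQ hx'Q (mem_sup_left (mem_zpowers y)) (hx.conj r).inS hy.inS
  have hxy2 : t ^ 2 = 1 := by
    rw [← e, hcom.mul_pow, sq, sq, (hx.conj r).sq, hy.sq, one_mul]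
  have hdvd : orderOf u ∣ 2 * (2 * i + 1) := by
    rw [orderOf_dvd_iff_pow_eq_one]
    rw [ht, ← pow_mul] at hxy2
    have h1 : orderOf u ∣ 2 * ((2 * i + 1) * (2 * i + 1)) := by
      rw [mul_comm 2]
      exact orderOf_dvd_of_pow_eq_one hxy2
    rw [hm] at h1
    have h2 : 2 ^ k ∣ 2 := by
      refine (Nat.Coprime.pow_left k ?_).dvd_of_dvd_mul_right ((Dvd.intro _ rfl).trans h1)
      exact Nat.coprime_two_left.2 (Odd.mul ⟨i, rfl⟩ ⟨i, rfl⟩)
    exact orderOf_dvd_iff_pow_eq_one.1 (hm ▸ Nat.mul_dvd_mul_right h2 _)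
  refine ⟨r, pow_mem (mem_zpowers _) _, 2 * i + 1, ⟨i, rfl⟩, ?_, ?_, hcom⟩
  · rw [← pow_mul]
    exact orderOf_dvd_iff_pow_eq_one.1 hdvd
  · rw [e, ht, show (2 * i + 1) * (2 * i + 1) = 2 * (2 * i + 1) * i + (2 * i + 1) by ring, pow_add,
      pow_mul, orderOf_dvd_iff_pow_eq_one.1 hdvd, one_pow, one_mul]

end Cfsg.Agent.ProductFusion
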