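import Cfsg.Agent.Lib.ProductFusion.W

/-!
# The subgroup attached to two involutions, and their commutation in a minimal counterexample
-/

set_option autoImplicit false

namespace Cfsg.Agent.ProductFusion

open Subgroup
open scoped commutatorElement Pointwise
open Cfsg (pPrimeCore)
open Cfsg.Agent.Balance
open Cfsg.Agent.GoldschmidtFunctor

universe u

variable {G : Type u} [Group G]

/-- The subgroup attached to commuting involutions. -/
def pairGen (S T : Subgroup G) (x y : G) : Subgroup G :=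
  ⨆ q : {q : Subgroup G × Subgroup G // Quad S T q.1 q.2 ∧ x ∈ q.1 ∧ y ∈ q.2}, gen q.1.1 q.1.2

/-- The rotations carrying `x` to the conjugate commuting with `y`. -/
def Rot (x y r : G) : Prop := r ∈ zpowers ((x * y) ^ 2) ∧ Commute (r * x * r⁻¹) y

/-- The subgroup attached to two involutions. -/
def phi (S T : Subgroup G) (x y : G) : Subgroup G :=
  ⨆ r : {r : G // Rot x y r}, pairGen S T (r.1 * x * r.1⁻¹) y

variable [Finite G] {P : Sylow 2 G} {S T : Subgroup G}

theorem pairGen_eq (M : Min P S T) {x y : G} (hx : x ≠ 1) (hy : y ≠ 1) {U V : Subgroup G}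
    (q : Quad S T U V) (hxU : x ∈ U) (hyV : y ∈ V) : pairGen S T x y = gen U V :=
  le_antisymm (iSup_le fun p => (p.2.1.gen_eq M q p.2.2.1 hxU hx p.2.2.2 hyV hy).le)
    (le_iSup_of_le (⟨(U, V), q, hxU, hyV⟩ : {q : Subgroup G × Subgroup G // _}) le_rfl)

theorem pairGen_comm (M : Min P S T) {x y : G} (hx : Inv S x) (hy : Inv T y) (hxy : Commute x y) :
    pairGen T S y x = pairGen S T x y := by
  obtain ⟨U, V, q, hxU, hyV⟩ := M.exists_quad hx hy hxy
  rw [pairGen_eq M hx.ne hy.ne q hxU hyV, pairGen_eq M.symm hy.ne hx.ne q.symm hyV hxU, gen_comm]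

theorem pairGen_conj (M : Min P S T) {x y : G} (hx : Inv S x) (hy : Inv T y) (hxy : Commute x y) (g : G) :
    (pairGen S T x y).map (MulAut.conj g).toMonoidHom = pairGen S T (g * x * g⁻¹) (g * y * g⁻¹) := by
  obtain ⟨U, V, q, hxU, hyV⟩ := M.exists_quad hx hy hxy
  rw [pairGen_eq M hx.ne hy.ne q hxU hyV, map_gen,
    pairGen_eq M (hx.conj g).ne (hy.conj g).ne (q.conj g) ⟨x, hxU, rfl⟩ ⟨y, hyV, rfl⟩]

theorem coprime_pairGen (M : Min P S T) {x y : G} (hx : Inv S x) (hy : Inv T y) (hxy : Commute x y) :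
    (Nat.card (pairGen S T x y)).Coprime 2 := by
  obtain ⟨U, V, q, hxU, hyV⟩ := M.exists_quad hx hy hxy
  rw [pairGen_eq M hx.ne hy.ne q hxU hyV]
  exact (q.complete M).1

theorem mem_pairGen (M : Min P S T) {x y c : G} (hx : Inv S x) (hy : Inv T y) (hxy : Commute x y)
    (hct : Commute c (x * y)) (hinv : x * c * x = c⁻¹) (hodd : (orderOf c).Coprime 2) :
    c ∈ pairGen S T x y := by
  obtain ⟨U, V, q, hxU, hyV⟩ := M.exists_quad hx hy hxy
  rw [pairGen_eq M hx.ne hy.ne q hxU hyV]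
  exact q.mem_gen_of_inverted M hxU hx.ne hyV hy.ne hct hinv hodd

theorem normalizer_pairGen (M : Min P S T) {x y : G} (hx : Inv S x) (hy : Inv T y) (hxy : Commute x y) :
    x ∈ normalizer (pairGen S T x y : Set G) ∧ y ∈ normalizer (pairGen S T x y : Set G) := by
  obtain ⟨U, V, q, hxU, hyV⟩ := M.exists_quad hx hy hxy
  rw [pairGen_eq M hx.ne hy.ne q hxU hyV]
  exact ⟨(q.complete M).2.2 (mem_sup_left hxU), (q.complete M).2.2 (mem_sup_right hyV)⟩

/-- Two commuting involutions of `T` commuting with `x` give the same subgroup. -/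
theorem pairGen_move (M : Min P S T) {x y z : G} (hx : Inv S x) (hy : Inv T y) (hz : Inv T z)
    (hxy : Commute x y) (hxz : Commute x z) (hyz : Commute y z) : pairGen S T x y = pairGen S T x z := by
  rcases eq_or_ne y z with rfl | hne
  · rfl
  set V := fourGroup hy.sq hz.sq hyz.eq
  have hV : Four T V := four_fourGroup M.data.hT hy hz hyz.eq hne
  have hxV : ∀ a ∈ zpowers x, ∀ b ∈ V, Commute a b := by
    rintro _ ⟨i, rfl⟩ b hb
    refine Commute.zpow_left ?_ i
    rcases mem_fourGroup.1 hb with rfl | rfl | rfl | rfl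
    exacts [Commute.one_right x, hxy, hxz, hxy.mul_right hxz]
  obtain ⟨U, hU, hxU, hUc⟩ := M.exists_four (isPGroup_sup (isPGroup_zpowers_of_sq hx.sq) hV.isPGroup hxV)
    (mem_sup_left (mem_zpowers x)) hx
  have q : Quad S T U V := ⟨hU, hV, fun a ha b hb => (hUc b (mem_sup_right hb) (hV.inS b hb) a ha).eq⟩
  rw [pairGen_eq M hx.ne hy.ne q hxU (mem_fourGroup.2 (Or.inr (Or.inl rfl))),
    pairGen_eq M hx.ne hz.ne q hxU (mem_fourGroup.2 (Or.inr (Or.inr (Or.inl rfl))))]

omit [Finite G] in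
theorem inverts_of_mem_zpowers {x y r : G} (hx : x * x = 1) (hy : y * y = 1)
    (hr : r ∈ zpowers ((x * y) ^ 2)) : x * r * x = r⁻¹ ∧ Commute r (x * y) := by
  obtain ⟨i, rfl⟩ := hr
  have hxi := inv_eq_of_mul_eq_one_left hx
  have hyi := inv_eq_of_mul_eq_one_left hy
  refine ⟨?_, ((Commute.refl (x * y)).pow_left 2).zpow_left i⟩
  calc x * ((x * y) ^ 2) ^ i * x = x * ((x * y) ^ 2) ^ i * x⁻¹ := by rw [hxi]
    _ = (x * (x * y) ^ 2 * x⁻¹) ^ i := conj_zpow.symm
    _ = _ := by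
      rw [← conj_pow, show x * (x * y) * x⁻¹ = (x * y)⁻¹ by rw [hxi, mul_inv_rev, hxi, hyi, ← mul_assoc, hx, one_mul],
        inv_pow, inv_zpow]

theorem coprime_orderOf_of_mem (M : Min P S T) {x y r : G} (hx : Inv S x) (hy : Inv T y)
    (hr : r ∈ zpowers ((x * y) ^ 2)) : (orderOf r).Coprime 2 := by
  obtain ⟨-, -, n, hn, hn1, -, -⟩ := M.data.dihedral hx hy
  refine ((Nat.coprime_two_right.2 hn).coprime_dvd_left (orderOf_dvd_of_pow_eq_one hn1)).coprime_dvd_left ?_
  rw [← Nat.card_zpowers ((x * y) ^ 2)]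
  exact Subgroup.orderOf_dvd_natCard _ hr

theorem exists_rot (M : Min P S T) {x y : G} (hx : Inv S x) (hy : Inv T y) : ∃ r, Rot x y r := by
  obtain ⟨r, hr, n, -, -, -, hc⟩ := M.data.dihedral hx hy
  exact ⟨r, hr, hc⟩

theorem Rot.unique (M : Min P S T) {x y r r' : G} (hx : Inv S x) (hy : Inv T y) (h : Rot x y r)
    (h' : Rot x y r') : r = r' := by
  have key : ∀ {r}, Rot x y r → r ^ 4 = ((x * y) ^ 2)⁻¹ := by
    intro r hR
    obtain ⟨hi, hcu⟩ := inverts_of_mem_zpowers hx.sq hy.sq hR.1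
    have h1 : r * x * r⁻¹ = r ^ 2 * x := by
      calc r * x * r⁻¹ = r * x * (x * r * x) := by rw [hi]
        _ = r ^ 2 * x := by simp [sq, mul_assoc, ← mul_assoc x x, hx.sq]
    have h2 : (r * x * r⁻¹ * y) ^ 2 = 1 := by
      rw [hR.2.mul_pow, sq, sq, (hx.conj r).sq, hy.sq, one_mul]
    rw [h1, mul_assoc, (hcu.pow_left 2).mul_pow, ← pow_mul] at h2
    exact eq_inv_of_mul_eq_one_left h2
  have hcomm : Commute r r' := by
    obtain ⟨i, rfl⟩ := h.1
    obtain ⟨j, rfl⟩ := h'.1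
    exact (Commute.refl _).zpow_zpow i j
  have h4 : (r * r'⁻¹) ^ 4 = 1 := by rw [hcomm.inv_right.mul_pow, inv_pow, key h, key h', mul_inv_cancel]
  refine mul_inv_eq_one.1 (orderOf_eq_one_iff.1 ?_)
  exact Nat.eq_one_of_dvd_coprimes
    ((coprime_orderOf_of_mem M hx hy (mul_mem h.1 (inv_mem h'.1))).pow_right 2) dvd_rfl
    (orderOf_dvd_of_pow_eq_one h4)

theorem phi_eq (M : Min P S T) {x y r : G} (hx : Inv S x) (hy : Inv T y) (hr : Rot x y r) :
    phi S T x y = pairGen S T (r * x * r⁻¹) y :=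
  le_antisymm (iSup_le fun s => by rw [Rot.unique M hx hy s.2 hr])
    (le_iSup_of_le (⟨r, hr⟩ : {r : G // _}) le_rfl)

/-- The rotation group `⟨(xy)²⟩` lies in `phi x y`. -/
theorem mem_phi (M : Min P S T) {x y c : G} (hx : Inv S x) (hy : Inv T y)
    (hc : c ∈ zpowers ((x * y) ^ 2)) : c ∈ phi S T x y := by
  obtain ⟨r, hr⟩ := exists_rot M hx hy
  rw [phi_eq M hx hy hr]
  obtain ⟨hri, hru⟩ := inverts_of_mem_zpowers hx.sq hy.sq hr.1
  obtain ⟨hci, hcu⟩ := inverts_of_mem_zpowers hx.sq hy.sq hc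
  have hcr : Commute c r := by
    obtain ⟨i, rfl⟩ := hc
    obtain ⟨j, rfl⟩ := hr.1
    exact (Commute.refl _).zpow_zpow i j
  refine mem_pairGen M (hx.conj r) hy hr.2 ?_ ?_ (coprime_orderOf_of_mem M hx hy hc)
  · have h1 : r * x * r⁻¹ * y = r ^ 2 * (x * y) := by
      calc r * x * r⁻¹ * y = r * x * (x * r * x) * y := by rw [hri]
        _ = r ^ 2 * (x * y) := by simp [sq, mul_assoc, ← mul_assoc x x, hx.sq]
    rw [h1]
    exact (hcr.pow_right 2).mul_right hcu
  · calc r * x * r⁻¹ * c * (r * x * r⁻¹) = r * x * (r⁻¹ * c * r) * x * r⁻¹ := by simp [mul_assoc]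
      _ = r * (x * c * x) * r⁻¹ := by rw [mul_assoc r⁻¹, hcr.eq, inv_mul_cancel_left]; simp [mul_assoc]
      _ = c⁻¹ := by rw [hci, ← (hcr.inv_left).eq, mul_inv_cancel_right]

theorem coprime_phi (M : Min P S T) {x y : G} (hx : Inv S x) (hy : Inv T y) :
    (Nat.card (phi S T x y)).Coprime 2 := by
  obtain ⟨r, hr⟩ := exists_rot M hx hy
  rw [phi_eq M hx hy hr]
  exact coprime_pairGen M (hx.conj r) hy hr.2

theorem phi_conj (M : Min P S T) {x y : G} (hx : Inv S x) (hy : Inv T y) (g : G) :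
    (phi S T x y).map (MulAut.conj g).toMonoidHom = phi S T (g * x * g⁻¹) (g * y * g⁻¹) := by
  obtain ⟨r, hr⟩ := exists_rot M hx hy
  have hr' : Rot (g * x * g⁻¹) (g * y * g⁻¹) (g * r * g⁻¹) := by
    refine ⟨?_, ?_⟩
    · obtain ⟨i, hi⟩ := hr.1
      refine ⟨i, ?_⟩
      show ((g * x * g⁻¹ * (g * y * g⁻¹)) ^ 2) ^ i = g * r * g⁻¹
      rw [show g * x * g⁻¹ * (g * y * g⁻¹) = g * (x * y) * g⁻¹ by simp [mul_assoc], conj_pow, conj_zpow]
      exact congrArg (fun z => g * z * g⁻¹) hi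
    · have h1 := hr.2.map (MulAut.conj g)
      simpa [MulAut.conj_apply, mul_assoc] using h1
  rw [phi_eq M hx hy hr, pairGen_conj M (hx.conj r) hy hr.2, phi_eq M (hx.conj g) (hy.conj g) hr']
  simp [mul_assoc]

/-- `phi` is symmetrical in the two strongly closed subgroups. -/
theorem phi_comm (M : Min P S T) {x y : G} (hx : Inv S x) (hy : Inv T y) :
    phi T S y x = phi S T x y := by
  obtain ⟨r, hr⟩ := exists_rot M hx hy
  have hr' : Rot y x r⁻¹ := by
    refine ⟨?_, ?_⟩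
    · rw [show (y * x) ^ 2 = ((x * y) ^ 2)⁻¹ by rw [← inv_pow, mul_inv_rev, hx.inv_eq, hy.inv_eq], zpowers_inv]
      exact inv_mem hr.1
    · have h1 := hr.2.symm.map (MulAut.conj r⁻¹)
      simpa [MulAut.conj_apply, mul_assoc] using h1
  have hc : Commute x (r⁻¹ * y * r⁻¹⁻¹) := hr'.2.symm
  rw [phi_eq M.symm hy hx hr', pairGen_comm M hx (hy.conj r⁻¹) hc, phi_eq M hx hy hr]
  have h2 := pairGen_conj M (hx.conj r) hy hr.2 r⁻¹
  rw [show r⁻¹ * (r * x * r⁻¹) * r⁻¹⁻¹ = x by simp [mul_assoc]] at h2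
  rw [← h2]
  exact mem_normalizer_iff_map_conj_eq.1 (le_normalizer
    (inv_mem (phi_eq M hx hy hr ▸ mem_phi M hx hy hr.1)))

/-- Conjugating `x₀` by an element of its own subgroup does not change the subgroup. -/
theorem phi_conj_of_mem (M : Min P S T) {x₀ z w : G} (hx : Inv S x₀) (hz : Inv T z) (hxz : Commute x₀ z)
    (hw : w ∈ pairGen S T x₀ z) : phi S T (w⁻¹ * x₀ * w) z = pairGen S T x₀ z := by
  set W := pairGen S T x₀ z with hW
  obtain ⟨hnx, hnz⟩ := normalizer_pairGen M hx hz hxz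
  have hcx : ∀ a ∈ W, x₀ * a * x₀ ∈ W := fun a ha => by
    have := (mem_normalizer_iff.1 hnx a).1 ha
    rwa [hx.inv_eq] at this
  have hcz : ∀ a ∈ W, z * a * z ∈ W := fun a ha => by
    have := (mem_normalizer_iff.1 hnz a).1 ha
    rwa [hz.inv_eq] at this
  set x := w⁻¹ * x₀ * w with hxdef
  have hX : Inv S x := by simpa [hxdef] using hx.conj w⁻¹
  set a := x₀ * w⁻¹ * x₀ * w with ha
  have haW : a ∈ W := mul_mem (hcx _ (inv_mem hw)) hw
  have hxa : x = x₀ * a := by rw [ha]; simp [mul_assoc, hxdef, ← mul_assoc x₀ x₀, hx.sq]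
  have hu : (x * z) ^ 2 ∈ W := by
    have h1 : (x * z) ^ 2 = x₀ * (a * (z * x₀ * a * (x₀ * z))) * x₀ * (x₀ * (z * x₀ * z)) := by
      rw [hxa, sq]
      simp [mul_assoc, ← mul_assoc x₀ x₀, hx.sq, ← mul_assoc z z, hz.sq]
    have e : x₀ * (z * x₀ * z) = 1 := by rw [← hxz.eq, mul_assoc x₀ z, hz.sq, mul_one, hx.sq]
    rw [h1, e, mul_one]
    refine hcx _ (mul_mem haW ?_)
    have h3 : z * x₀ * a * (x₀ * z) = z * (x₀ * a * x₀) * z := by simp [mul_assoc]
    rw [h3]
    exact hcz _ (hcx _ haW)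
  obtain ⟨r, hr⟩ := exists_rot M hX hz
  have hrW : r ∈ W := zpowers_le.2 hu hr.1
  rw [phi_eq M hX hz hr]
  set x' := r * x * r⁻¹ with hx'
  set c := x₀ * x' with hc
  have hcW : c ∈ W := by
    have h1 : c = x₀ * r * x₀ * a * r⁻¹ := by rw [hc, hx', hxa]; simp [mul_assoc]
    rw [h1]
    exact mul_mem (mul_mem (hcx _ hrW) haW) (inv_mem hrW)
  have hcinv : x₀ * c * x₀ = c⁻¹ := by
    rw [hc, mul_inv_rev, (hX.conj r).inv_eq, hx.inv_eq, ← mul_assoc x₀ x₀, hx.sq, one_mul]
  have hcodd : (orderOf c).Coprime 2 :=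
    (coprime_pairGen M hx hz hxz).coprime_dvd_left (Subgroup.orderOf_dvd_natCard W hcW)
  obtain ⟨m, hm⟩ := exists_pow_eq_self_of_coprime (n := 2) hcodd.symm
  set d := c ^ m with hd
  have hdz : Commute d z := (hxz.mul_left hr.2).pow_left m
  have hd2 : d * d = c := by rw [hd, ← pow_add, ← two_mul, pow_mul, hm]
  have hdx : d⁻¹ * x₀ * d⁻¹⁻¹ = x' := by
    have h1 : x₀ * d * x₀ = d⁻¹ := conj_pow_of_inverts hx.sq hcinv m
    calc d⁻¹ * x₀ * d⁻¹⁻¹ = x₀ * d * x₀ * x₀ * d := by rw [h1, inv_inv]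
      _ = x₀ * (d * d) := by simp [mul_assoc, hx.sq]
      _ = x' := by rw [hd2, hc, ← mul_assoc, hx.sq, one_mul]
  have hdz' : d⁻¹ * z * d⁻¹⁻¹ = z := by rw [inv_inv, mul_assoc, ← hdz.eq, inv_mul_cancel_left]
  have h2 := pairGen_conj M hx hz hxz d⁻¹
  rw [hdx, hdz'] at h2
  rw [← h2]
  exact mem_normalizer_iff_map_conj_eq.1 (le_normalizer (inv_mem (pow_mem hcW m)))

/-- Commuting involutions of `T` give the same subgroup with every `x`. -/
theorem phi_eq_of_commute (M : Min P S T) {x y z : G} (hx : Inv S x) (hy : Inv T y) (hz : Inv T z)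
    (hyz : Commute y z) : phi S T x y = phi S T x z := by
  obtain ⟨r, hr⟩ := exists_rot M hx hy
  set x' := r * x * r⁻¹ with hx'
  have hX' : Inv S x' := hx.conj r
  obtain ⟨r₁, hr₁⟩ := exists_rot M hX' hz
  set x'' := r₁ * x' * r₁⁻¹ with hx''
  have hr₁y : Commute y r₁ := by
    obtain ⟨i, hi⟩ := hr₁.1
    rw [← hi]
    exact ((hr.2.symm.mul_right hyz).pow_right 2).zpow_right i
  have hy1 : r₁ * y * r₁⁻¹ = y := by rw [← hr₁y.eq, mul_inv_cancel_right]
  have hx''y : Commute x'' y := by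
    have h1 := hr.2.map (MulAut.conj r₁)
    rw [MulAut.conj_apply, MulAut.conj_apply, hy1] at h1
    exact h1
  have h1 : pairGen S T x'' z = pairGen S T x'' y := (pairGen_move M (hX'.conj r₁) hy hz hx''y hr₁.2 hyz).symm
  have h2 := pairGen_conj M hX' hy hr.2 r₁
  rw [hy1] at h2
  have hr₁W : r₁ ∈ pairGen S T x'' z := phi_eq M hX' hz hr₁ ▸ mem_phi M hX' hz hr₁.1
  have h3 : pairGen S T x' y = pairGen S T x'' z := by
    have h4 := mem_normalizer_iff_map_conj_eq.1 (le_normalizer (inv_mem hr₁W))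
    rw [h1] at h4 ⊢
    rw [← h4, hx'', ← h2, map_map]
    convert (Subgroup.map_id _).symm
    ext g
    simp [MulAut.conj_apply, mul_assoc]
  have hrW : r ∈ pairGen S T x'' z := h3 ▸ (phi_eq M hx hy hr ▸ mem_phi M hx hy hr.1)
  have h5 := phi_conj_of_mem M (hX'.conj r₁) hz hr₁.2 (mul_mem hr₁W hrW)
  rw [show (r₁ * r)⁻¹ * (r₁ * x' * r₁⁻¹) * (r₁ * r) = x by simp [hx', mul_assoc]] at h5
  rw [h5, phi_eq M hx hy hr, ← hx', h3]

theorem phi_eq_of_commute_left (M : Min P S T) {x x' y : G} (hx : Inv S x) (hx' : Inv S x') (hy : Inv T y)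
    (hxx : Commute x x') : phi S T x y = phi S T x' y := by
  rw [← phi_comm M hx hy, ← phi_comm M hx' hy]
  exact phi_eq_of_commute M.symm hy hx hx' hxx

/-- Two involutions of `S` giving the same subgroups. -/
def Eqv (S T : Subgroup G) (x x' : G) : Prop := ∀ y, Inv T y → phi S T x y = phi S T x' y

omit [Finite G] in
theorem Eqv.trans {x x' x'' : G} (h : Eqv S T x x') (h' : Eqv S T x' x'') : Eqv S T x x'' :=
  fun y hy => (h y hy).trans (h' y hy)

omit [Finite G] in
theorem Eqv.symm' {x x' : G} (h : Eqv S T x x') : Eqv S T x' x := fun y hy => (h y hy).symm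

theorem Eqv.conj (M : Min P S T) {x x' : G} (hx : Inv S x) (hx' : Inv S x') (h : Eqv S T x x') (g : G) :
    Eqv S T (g * x * g⁻¹) (g * x' * g⁻¹) := by
  intro y hy
  have h1 : g * (g⁻¹ * y * g⁻¹⁻¹) * g⁻¹ = y := by simp [mul_assoc]
  have h2 := phi_conj M hx (hy.conj g⁻¹) g
  rw [h _ (hy.conj g⁻¹), phi_conj M hx' (hy.conj g⁻¹) g, h1] at h2
  exact h2.symm

/-- The stabiliser of the class of `x`. -/
def stab (M : Min P S T) (x : G) (hx : Inv S x) : Subgroup G where
  carrier := {g | Eqv S T (g * x * g⁻¹) x}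
  one_mem' := by
    show Eqv S T (1 * x * 1⁻¹) x
    simp only [one_mul, inv_one, mul_one]
    exact fun _ _ => rfl
  mul_mem' := by
    intro a b ha hb
    have h1 := Eqv.conj M (hx.conj b) hx hb a
    rw [show a * (b * x * b⁻¹) * a⁻¹ = a * b * x * (a * b)⁻¹ by simp [mul_assoc]] at h1
    exact h1.trans ha
  inv_mem' := by
    intro a ha
    have h1 := Eqv.conj M (hx.conj a) hx ha a⁻¹
    rw [show a⁻¹ * (a * x * a⁻¹) * a⁻¹⁻¹ = x by simp [mul_assoc]] at h1
    exact h1.symm'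

theorem centralizer_le_stab (M : Min P S T) {x e : G} (hx : Inv S x) (he : Inv S e) (hxe : Eqv S T e x) :
    centralizer ({e} : Set G) ≤ stab M x hx := fun g hg => by
  show Eqv S T (g * x * g⁻¹) x
  have h1 := (Eqv.conj M he hx hxe g).symm'
  rw [mem_centralizer_singleton_iff.1 hg, mul_inv_cancel_right] at h1
  exact h1.trans hxe

/-- Every involution of `T` fixes every class of involutions of `S`. -/
theorem mem_stab (M : Min P S T) {x z : G} (hx : Inv S x) (hz : Inv T z) : z ∈ stab M x hx := by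
  obtain ⟨r, hr⟩ := exists_rot M hx hz
  set x' := r * x * r⁻¹ with hx'def
  have hX : Inv S x' := hx.conj r
  have hzs : z ∈ stab M x' hX :=
    centralizer_le_stab M hX hX (fun _ _ => rfl) (mem_centralizer_singleton_iff.2 hr.2.eq.symm)
  have hrs : r ∈ stab M x' hX := by
    obtain ⟨U, V, q, hxU, hzV⟩ := M.exists_quad hX hz hr.2
    have hle : gen U V ≤ stab M x' hX := by
      rw [q.gen_eq_left M]
      exact iSup_le fun e => ((q.separated M).theta_le_core (mem_sup_left e.2.1)).trans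
        ((centralizerPPrimeCore_le _).trans (centralizer_le_stab M hX (q.left.inv e.2.1 e.2.2)
          fun y hy => phi_eq_of_commute_left M (q.left.inv e.2.1 e.2.2) hX hy (q.left.commute e.2.1 hxU)))
    refine hle ?_
    rw [← pairGen_eq M hX.ne hz.ne q hxU hzV, hx'def, ← phi_eq M hx hz hr]
    exact mem_phi M hx hz hr.1
  have hE : Eqv S T x x' := by
    have h1 : Eqv S T (r⁻¹ * x' * r⁻¹⁻¹) x' := (stab M x' hX).inv_mem hrs
    rwa [show r⁻¹ * x' * r⁻¹⁻¹ = x by simp [hx'def, mul_assoc]] at h1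
  exact ((Eqv.conj M hx hX hE z).trans hzs).trans hE.symm'

/-- In a minimal counterexample involutions conjugate into `S` commute with those conjugate into `T`. -/
theorem Min.commute (M : Min P S T) {x y : G} (hx : Inv S x) (hy : Inv T y) : Commute x y := by
  set J₁ := closure {a | Inv S a} with hJ₁
  set J₂ := closure {a | Inv T a} with hJ₂
  have hn : ∀ R : Subgroup G, (closure {a | Inv R a}).Normal := fun R => by
    refine normalizer_eq_top_iff.1 (top_le_iff.1 ?_)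
    rw [le_normalizer_iff]
    intro g _ a ha
    induction ha using closure_induction with
    | mem b hb => exact subset_closure (hb.conj g)
    | one => simp
    | mul b c _ _ ib ic => simpa [mul_assoc] using mul_mem ib ic
    | inv b _ ib => simpa [mul_assoc] using inv_mem ib
  haveI := hn S
  haveI := hn T
  set K := J₁ ⊓ J₂ with hK
  haveI hKn : K.Normal := Subgroup.normal_inf_normal J₁ J₂
  set W := phi S T x y with hW
  have hKW : K ≤ normalizer (W : Set G) := by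
    intro k hk
    refine mem_normalizer_iff_map_conj_eq.2 ?_
    show (phi S T x y).map (MulAut.conj k).toMonoidHom = _
    have h1 : Eqv S T (k * x * k⁻¹) x :=
      (closure_le (stab M x hx)).2 (fun z hz => mem_stab M hx hz) (mem_inf.1 hk).2
    have h2 : Eqv T S (k * y * k⁻¹) y :=
      (closure_le (stab M.symm y hy)).2 (fun z hz => mem_stab M.symm hy hz) (mem_inf.1 hk).1
    rw [phi_conj M hx hy k, h1 _ (hy.conj k), ← phi_comm M hx (hy.conj k), h2 _ hx, phi_comm M hx hy]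
  have hu : (x * y) ^ 2 ∈ K := by
    refine mem_inf.2 ⟨?_, ?_⟩
    · rw [show (x * y) ^ 2 = x * (y * x * y⁻¹) by rw [sq, hy.inv_eq]; simp [mul_assoc]]
      exact mul_mem (subset_closure hx) (subset_closure (hx.conj y))
    · rw [show (x * y) ^ 2 = x * y * x⁻¹ * y by rw [sq, hx.inv_eq]; simp [mul_assoc]]
      exact mul_mem (subset_closure (hy.conj x)) (subset_closure hy)
  have hWK : W ⊓ K ≤ pPrimeCore 2 G :=
    (le_core' inf_le_right ((le_inf hKW le_normalizer).trans inf_normalizer_le_normalizer_inf)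
      ((coprime_phi M hx hy).coprime_dvd_left (card_dvd_of_le inf_le_left))).trans
      (core'_le_pPrimeCore_of_isSubnormal hKn.isSubnormal)
  have h1 := hWK (mem_inf.2 ⟨mem_phi M hx hy (mem_zpowers _), hu⟩)
  rw [M.core, mem_bot, sq] at h1
  show x * y = y * x
  calc x * y = (x * y)⁻¹ := (inv_eq_of_mul_eq_one_left h1).symm
    _ = y * x := by rw [mul_inv_rev, hx.inv_eq, hy.inv_eq]

end Cfsg.Agent.ProductFusion
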