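import Cfsg.Agent.Lib.ProductFusion.Invol
import Cfsg.Agent.Lib.GoldschmidtFunctor.Balance
import Cfsg.Agent.Lib.ZStar.Main

/-!
# Pairs of four-groups in a minimal counterexample, and the factor of Goldschmidt's functor
-/

set_option autoImplicit false

namespace Cfsg.Agent.ProductFusion

open Subgroup
open scoped commutatorElement
open Cfsg (pPrimeCore centralizerPPrimeCore IsComponent)
open Cfsg.Agent.Balance
open Cfsg.Agent.GoldschmidtFunctor

universe u

variable {G : Type u} [Group G] [Finite G] {P : Sylow 2 G} {S T : Subgroup G}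

/-- The situation in a minimal counterexample. -/
structure Min (P : Sylow 2 G) (S T : Subgroup G) : Prop where
  data : Data P S T
  ft : FTConsumers.OddOrder.{u}
  core : pPrimeCore 2 G = ⊥
  ih : ∀ H : Subgroup G, H ≠ ⊤ → ⁅cl S H, cl T H⁆ ≤ core' 2 H
  ncS : ∀ x, Inv S x → x ∉ center G
  ncT : ∀ x, Inv T x → x ∉ center G
  neS : ∃ x, Inv S x
  neT : ∃ x, Inv T x

theorem Min.symm (M : Min P S T) : Min P T S :=
  ⟨M.data.symm, M.ft, M.core, fun H hH => commutator_comm (cl T H) (cl S H) ▸ M.ih H hH, M.ncT, M.ncS,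
    M.neT, M.neS⟩

omit [Finite G] in
theorem centralizer_singleton_ne_top {x : G} (h : x ∉ center G) : centralizer ({x} : Set G) ≠ ⊤ :=
  fun he => h (mem_center_iff.2 fun g =>
    mem_centralizer_singleton_iff.1 (he.symm ▸ mem_top g : g ∈ centralizer ({x} : Set G)))

theorem Min.exists_commuting_conj (M : Min P S T) {x : G} (hx : Inv S x) :
    ∃ g : G, Commute x (g * x * g⁻¹) ∧ g * x * g⁻¹ ≠ x := by
  by_contra hno
  push Not at hno
  have hiso : Cfsg.IsIsolatedInvolution x := by
    refine ⟨?_, hno⟩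
    haveI : Fact (Nat.Prime 2) := ⟨Nat.prime_two⟩
    exact orderOf_eq_prime (by rw [sq]; exact hx.sq) hx.ne
  refine M.ncS x hx (mem_center_iff.2 fun g => ?_)
  have h := ZStar.inZStar hiso g
  rw [M.core, mem_bot, mul_inv_eq_one] at h
  exact mul_inv_eq_iff_eq_mul.1 h

theorem Min.exists_four (M : Min P S T) {Q : Subgroup G} (hQ : IsPGroup 2 Q) {x : G} (hxQ : x ∈ Q)
    (hx : Inv S x) : ∃ U, Four S U ∧ x ∈ U ∧ ∀ y ∈ Q, InS T y → ∀ u ∈ U, Commute u y := by
  obtain ⟨g, hg, hg'⟩ := M.exists_commuting_conj hx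
  exact M.data.exists_four hx (hx.conj g) hg.eq hg'.symm hQ hxQ hx

/-- The product of commuting involutions conjugate into `S` and `T` is not central. -/
theorem Min.mul_notMem_center (M : Min P S T) {x y : G} (hx : Inv S x) (hy : Inv T y) (hxy : Commute x y) :
    x * y ∉ center G := by
  intro hc
  obtain ⟨g, hg, hg'⟩ := M.symm.exists_commuting_conj hy
  set y' := g * y * g⁻¹
  set x' := g * x * g⁻¹
  have htc : ∀ z, z * (x * y) = x * y * z := mem_center_iff.1 hc
  have h1 : x' * y' = x * y := by
    rw [show x' * y' = g * (x * y) * g⁻¹ by simp [x', y', mul_assoc], htc g, mul_inv_cancel_right]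
  have h2 : x = x * y * y := by rw [mul_assoc, hy.sq, mul_one]
  have h3 : x' = x * y * y' := by rw [← h1, mul_assoc x', (hy.conj g).sq, mul_one]
  have hcx : Commute x x' := by
    have c1 : Commute (x * y) y' := (htc y').symm
    have c2 : Commute (x * y) y := (htc y).symm
    rw [h2, h3]
    exact ((Commute.refl (x * y)).mul_right c1).mul_left (c2.symm.mul_right hg)
  have hQ : IsPGroup 2 (zpowers x ⊔ zpowers x' : Subgroup G) :=
    isPGroup_sup (isPGroup_zpowers_of_sq hx.sq) (isPGroup_zpowers_of_sq (hx.conj g).sq)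
      (by rintro _ ⟨i, rfl⟩ _ ⟨j, rfl⟩; exact hcx.zpow_zpow i j)
  have hQ' : IsPGroup 2 (zpowers y ⊔ zpowers y' : Subgroup G) :=
    isPGroup_sup (isPGroup_zpowers_of_sq hy.sq) (isPGroup_zpowers_of_sq (hy.conj g).sq)
      (by rintro _ ⟨i, rfl⟩ _ ⟨j, rfl⟩; exact hg.zpow_zpow i j)
  have heq : x * x' = y * y' := by
    have hxx : x * (x * y) = y := by rw [← mul_assoc, hx.sq, one_mul]
    rw [h3, ← mul_assoc, hxx]
  have hS := inS_mul M.data.hS hQ (mem_sup_left (mem_zpowers x)) (mem_sup_right (mem_zpowers x')) hx.inS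
    (hx.conj g).inS
  have hT := inS_mul M.data.hT hQ' (mem_sup_left (mem_zpowers y)) (mem_sup_right (mem_zpowers y')) hy.inS
    (hy.conj g).inS
  have he := M.data.eq_one hS (heq ▸ hT)
  rw [heq] at he
  exact hg' ((eq_inv_of_mul_eq_one_right he).trans hy.inv_eq)

/-- Commuting four-groups of `S` and `T`. -/
structure Quad (S T U V : Subgroup G) : Prop where
  left : Four S U
  right : Four T V
  comm : ∀ a ∈ U, ∀ b ∈ V, a * b = b * a

omit [Finite G] in
theorem Quad.symm {U V : Subgroup G} (q : Quad S T U V) : Quad T S V U :=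
  ⟨q.right, q.left, fun a ha b hb => (q.comm b hb a ha).symm⟩

theorem Min.exists_quad (M : Min P S T) {x y : G} (hx : Inv S x) (hy : Inv T y) (hxy : Commute x y) :
    ∃ U V, Quad S T U V ∧ x ∈ U ∧ y ∈ V := by
  have hQ : IsPGroup 2 (zpowers x ⊔ zpowers y : Subgroup G) :=
    isPGroup_sup (isPGroup_zpowers_of_sq hx.sq) (isPGroup_zpowers_of_sq hy.sq)
      (by rintro _ ⟨i, rfl⟩ _ ⟨j, rfl⟩; exact hxy.zpow_zpow i j)
  obtain ⟨U, hU, hxU, hUc⟩ := M.exists_four hQ (mem_sup_left (mem_zpowers x)) hx
  have hQ' : IsPGroup 2 (U ⊔ zpowers y : Subgroup G) :=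
    isPGroup_sup hU.isPGroup (isPGroup_zpowers_of_sq hy.sq)
      (by rintro a ha _ ⟨j, rfl⟩; exact (hUc y (mem_sup_right (mem_zpowers y)) hy.inS a ha).zpow_right j)
  obtain ⟨V, hV, hyV, hVc⟩ := M.symm.exists_four hQ' (mem_sup_right (mem_zpowers y)) hy
  exact ⟨U, V, ⟨hU, hV, fun a ha b hb => ((hVc a (mem_sup_left ha) (hU.inS a ha) b hb).eq).symm⟩, hxU, hyV⟩

theorem Quad.separated (M : Min P S T) {U V : Subgroup G} (q : Quad S T U V) : Separated U V := by
  refine ⟨q.left.el, q.right.el, q.left.card, q.right.card, q.comm, fun c hc hc1 L hL => ?_⟩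
  have hn : U ≤ normalizer (V : Set G) := fun a ha => centralizer_le_normalizer _
    (mem_centralizer_iff.2 fun b hb => (q.comm a ha b hb).symm)
  obtain ⟨a, ha, b, hb, rfl⟩ := (Coprime.mem_sup_iff_of_le_normalizer hn).1 hc
  have hnc : a * b ∉ center G := by
    rcases eq_or_ne a 1 with rfl | ha1
    · rw [one_mul] at hc1 ⊢
      exact M.ncT b (q.right.inv hb hc1)
    rcases eq_or_ne b 1 with rfl | hb1
    · rw [mul_one]
      exact M.ncS a (q.left.inv ha ha1)
    exact M.mul_notMem_center (q.left.inv ha ha1) (q.right.inv hb hb1) (q.comm a ha b hb)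
  set H := centralizer ({a * b} : Set G) with hH
  set π := QuotientGroup.mk' (pPrimeCore 2 ↥H) with hπ
  set A := ((cl S H).subgroupOf H).map π with hA
  set B := ((cl T H).subgroupOf H).map π with hB
  haveI : A.Normal := (normal_subgroupOf_of_le_normalizer (le_normalizer_cl S H)).map π
    (QuotientGroup.mk'_surjective _)
  have hAB : ∀ s ∈ A, ∀ t ∈ B, Commute s t := by
    rintro _ ⟨s, hs, rfl⟩ _ ⟨t, ht, rfl⟩
    rw [← commutatorElement_eq_one_iff_commute, ← map_commutatorElement]
    refine (QuotientGroup.eq_one_iff _).2 ?_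
    have h1 : ((⁅s, t⁆ : H) : G) ∈ core' 2 H := by
      refine M.ih H (centralizer_singleton_ne_top hnc) ?_
      rw [show ((⁅s, t⁆ : H) : G) = ⁅(s : G), (t : G)⁆ from map_commutatorElement H.subtype s t]
      exact commutator_mem_commutator hs ht
    obtain ⟨z, hz, he⟩ := h1
    exact (Subtype.ext he : z = ⁅s, t⁆) ▸ hz
  rcases Components.IsComponent.le_or_commutator_eq_bot_of_normal hL A with hLA | hLA
  · exact Or.inr fun y hy l hl => (hAB l (hLA hl) _ (mem_map_of_mem π
      (mem_cl y.2 (q.right.inS _ hy)))).symm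
  · exact Or.inl fun y hy l hl => (mem_centralizer_iff.1
      (Components.le_centralizer_of_commutator_eq_bot hLA hl) _ (mem_map_of_mem π
        (mem_cl y.2 (q.left.inS _ hy))))

/-- The factor attached to a single involution. -/
abbrev fac (e b : G) : Subgroup G :=
  ⁅centralizerPPrimeCore 2 e, zpowers b⁆ ⊔ (centralizerPPrimeCore 2 e ⊓ centralizerPPrimeCore 2 b)

variable {U V : Subgroup G}

/-- `O(C(e)) ∩ C(b)` lands in `O(C(b))` as soon as it centralises the components fixed by `V`. -/
theorem mem_core_of_fixes (h : Separated U V) {e b : G} (he : e ∈ U) (hb : b ∈ U ⊔ V) (hb1 : b ≠ 1)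
    {d : G} (hde : d ∈ centralizerPPrimeCore 2 e) (hdb : d ∈ centralizer ({b} : Set G))
    (hV : ∀ L, IsComponent L → Fixes b V L → ∀ l ∈ L,
      Commute (QuotientGroup.mk' (pPrimeCore 2 ↥(centralizer ({b} : Set G))) ⟨d, hdb⟩) l) :
    d ∈ centralizerPPrimeCore 2 b := by
  haveI : Fact (Nat.Prime 2) := ⟨Nat.prime_two⟩
  set H := centralizer ({b} : Set G) with hH
  set π := QuotientGroup.mk' (pPrimeCore 2 ↥H) with hπ
  have heH : e ∈ H := h.le_centralizer hb (mem_sup_left he)
  have he2 : IsPGroup 2 (zpowers (⟨e, heH⟩ : H)) :=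
    ((h.isPGroup_zpowers (mem_sup_left he)).comap_of_injective H.subtype H.subtype_injective).to_le
      (zpowers_le.2 (mem_zpowers e : H.subtype ⟨e, heH⟩ ∈ zpowers e))
  have hcore := map_le_core'_centR he2 (D := (centralizerPPrimeCore 2 e ⊓ H).subgroupOf H)
    (((coprime_centralizerPPrimeCore e).coprime_dvd_left (card_dvd_of_le inf_le_left)).coprime_dvd_left
      (by rw [Nat.card_congr (subgroupOfEquivOfLe inf_le_right).toEquiv]))
    (fun z hz => mem_centralizer_singleton_iff.2 (Subtype.ext
      (mem_centralizer_singleton_iff.1 (centralizerPPrimeCore_le e (mem_inf.1 hz).1))))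
    (fun z hz => by
      have hz' : (z : G) ∈ normalizer ((centralizerPPrimeCore 2 e ⊓ H : Subgroup G) : Set G) :=
        inf_normalizer_le_normalizer_inf ⟨le_normalizer_centralizerPPrimeCore e
          (mem_centralizer_singleton_iff.2 (congrArg Subtype.val (mem_centralizer_singleton_iff.1 hz))),
          le_normalizer z.2⟩
      rw [mem_normalizer_iff] at hz' ⊢
      exact fun w => hz' (w : G))
  have hmem := hcore (mem_map_of_mem π
    (show (⟨d, hdb⟩ : ↥H) ∈ (centralizerPPrimeCore 2 e ⊓ H).subgroupOf H from ⟨hde, hdb⟩))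
  refine ⟨⟨d, hdb⟩, ?_, rfl⟩
  refine mem_oddCore ((coprime_centralizerPPrimeCore e).coprime_dvd_left ?_) (fun z hz => ?_)
    fun M hM => ?_
  · rw [Subgroup.orderOf_mk]
    exact Subgroup.orderOf_dvd_natCard _ hde
  · exact (mem_centralizer_iff.1 (mem_inf.1 (core'_le _ hmem)).2 z hz).symm
  rcases h.sep b hb hb1 M hM with hf | hf
  · exact commute_of_fixed PCore.pPrimeCore_quotient_self_eq_bot
      (by rw [← MonoidHom.map_zpowers]; exact he2.map π) hmem hM (fun m hm => hf ⟨e, heH⟩ he m hm)
  · exact hV M hM hf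

/-- On `U`, the factor of the functor at `V` depends only on one involution of `V`. -/
theorem factor_eq_fac (h : Separated U V) {e b : G} (he : e ∈ U) (hb : b ∈ V) (hb1 : b ≠ 1) :
    ⁅centralizerPPrimeCore 2 e, V⁆ ⊔ (centralizerPPrimeCore 2 e ⊓ core' 2 (centralizer (V : Set G))) =
      fac e b := by
  haveI : Fact (Nat.Prime 2) := ⟨Nat.prime_two⟩
  set O := centralizerPPrimeCore 2 e with hO
  set Z := zpowers b with hZ
  have hbA : b ∈ U ⊔ V := mem_sup_right hb
  have hVO : V ≤ normalizer (O : Set G) :=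
    (le_sup_right.trans (h.le_centralizer (mem_sup_left he))).trans (le_normalizer_centralizerPPrimeCore e)
  have hZV : Z ≤ V := zpowers_le.2 hb
  have hcopV : (Nat.card V).Coprime (Nat.card O) := h.symm.coprime₁ (coprime_centralizerPPrimeCore e)
  have hsolV : Group.IsSolvable ↥V := by
    haveI := h.symm.isPGroup₁.isNilpotent
    infer_instance
  have hnorm : ∀ {L}, IsComponent L → ∀ y : ↥(centralizer ({b} : Set G)), (y : G) ∈ O →
      QuotientGroup.mk' (pPrimeCore 2 ↥(centralizer ({b} : Set G))) y ∈ normalizer (L : Set _) :=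
    fun hL y hy => mem_normalizer_component (h.le_centralizer hbA (mem_sup_left he))
      (h.isPGroup_zpowers (mem_sup_left he)) (D := O ⊓ centralizer ({b} : Set G))
      ((coprime_centralizerPPrimeCore e).coprime_dvd_left (card_dvd_of_le inf_le_left))
      (inf_le_left.trans (centralizerPPrimeCore_le _))
      (fun z hz => inf_normalizer_le_normalizer_inf
        ⟨le_normalizer_centralizerPPrimeCore _ hz.1, le_normalizer hz.2⟩) inf_le_right hL y ⟨hy, y.2⟩
  refine le_antisymm (sup_le ?_ ?_) (sup_le ?_ ?_)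
  · refine commutator_le.2 fun x hx v hv => ?_
    obtain ⟨c, hc, m, hm, rfl⟩ := Coprime.exists_centralizer_mul_commutator (hZV.trans hVO)
      (hcopV.coprime_dvd_left (card_dvd_of_le hZV)) (Or.inl (Coprime.isSolvable_of_le hZV hsolV)) hx
    rw [commutatorElement_mul_left_eq_conj_mul]
    refine mul_mem (mem_sup_left ?_) (mem_sup_right ?_)
    · refine (mem_normalizer_iff.1 (normalizer_commutator_ge_left O Z hc.1) _).1 ?_
      have hv' : v ∈ normalizer ((⁅O, Z⁆ : Subgroup G) : Set G) :=
        Coprime.le_normalizer_commutator hVO (fun w hw => mem_centralizer_iff.2 fun z hz =>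
          h.symm.comm₁ (hZV hz) hw) hv
      rw [commutatorElement_def, mul_assoc, mul_assoc, ← mul_assoc v]
      exact mul_mem hm ((mem_normalizer_iff.1 hv' _).1 (inv_mem hm))
    · have hcb : c ∈ centralizer ({b} : Set G) :=
        centralizer_le (Set.singleton_subset_iff.2 (mem_zpowers b)) hc.2
      have hvb : v ∈ centralizer ({b} : Set G) := h.le_centralizer hbA (mem_sup_right hv)
      have hd : ⁅c, v⁆ ∈ O := Coprime.commutator_le_left_of_le_normalizer hVO
        (commutator_mem_commutator hc.1 hv)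
      refine mem_inf.2 ⟨hd, mem_core_of_fixes h he hbA hb1 hd
        (by simp only [commutatorElement_def]
            exact mul_mem (mul_mem (mul_mem hcb hvb) (inv_mem hcb)) (inv_mem hvb))
        fun L hL hf l hl => ?_⟩
      have h1 := commute_commutator_of_fixed (hnorm hL ⟨c, hcb⟩ hc.1) (fun k hk => hf ⟨v, hvb⟩ hv k hk) l hl
      rw [← map_commutatorElement] at h1
      exact h1
  · intro z hz
    obtain ⟨hzO, hzN⟩ := mem_inf.1 hz
    have hzb : z ∈ centralizer ({b} : Set G) :=
      centralizer_le (Set.singleton_subset_iff.2 hb) (core'_le _ hzN)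
    refine mem_sup_right (mem_inf.2 ⟨hzO, mem_core_of_fixes h he hbA hb1 hzO hzb ?_⟩)
    set H := centralizer ({b} : Set G) with hH
    set π := QuotientGroup.mk' (pPrimeCore 2 ↥H) with hπ
    set N := core' 2 (centralizer (V : Set G)) ⊓ H with hN
    intro L hL hf l hl
    refine commute_of_normalized PCore.pPrimeCore_quotient_self_eq_bot hL
      (N := (N.subgroupOf H).map π) ?_ ?_
      (mem_map_of_mem π (mem_subgroupOf.2 (mem_inf.2 ⟨hzN, hzb⟩))) (hnorm hL ⟨z, hzb⟩ hzO) l hl
    · refine ((card_core'_coprime (centralizer (V : Set G))).coprime_dvd_left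
        (card_dvd_of_le (inf_le_left : N ≤ _))).coprime_dvd_left ((card_map_dvd _ π).trans ?_)
      rw [Nat.card_congr (subgroupOfEquivOfLe (inf_le_right : N ≤ H)).toEquiv]
    · intro m hm
      obtain ⟨g, rfl⟩ := QuotientGroup.mk'_surjective (pPrimeCore 2 ↥H) m
      obtain ⟨g', hg', hge⟩ := exists_mem_centralizer_of_map π
        (by rw [hπ, QuotientGroup.ker_mk']; exact PCore.coprime_card_pPrimeCore)
        (R := V.subgroupOf H) (h.symm.isPGroup₁.comap_of_injective H.subtype H.subtype_injective)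
        (g := g) (fun r hr => (hf r hr (π g) hm).symm)
      rw [← hge]
      refine le_normalizer_map π (mem_map_of_mem π ?_)
      have hgV : (g' : G) ∈ centralizer (V : Set G) := mem_centralizer_iff.2 fun x hx =>
        congrArg Subtype.val (mem_centralizer_iff.1 hg' ⟨x, h.le_centralizer hbA (mem_sup_right hx)⟩ hx)
      have hn : (g' : G) ∈ normalizer (N : Set G) :=
        inf_normalizer_le_normalizer_inf ⟨le_normalizer_core' _ hgV, le_normalizer g'.2⟩
      rw [mem_normalizer_iff] at hn ⊢
      exact fun w => hn (w : G)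
  · exact le_sup_of_le_left (commutator_mono le_rfl hZV)
  · set D := O ⊓ centralizerPPrimeCore 2 b with hD
    have hVD : V ≤ normalizer (D : Set G) := fun v hv => inf_normalizer_le_normalizer_inf
      ⟨hVO hv, le_normalizer_centralizerPPrimeCore b (h.le_centralizer hbA (mem_sup_right hv))⟩
    rw [← Coprime.commutator_sup_centralizer hVD (hcopV.coprime_dvd_right (card_dvd_of_le inf_le_left))
      (Or.inl hsolV)]
    refine sup_le_sup (commutator_mono inf_le_left le_rfl) (le_inf (inf_le_left.trans inf_le_left) ?_)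
    exact le_trans (inf_le_inf_right _ inf_le_right)
      (core'_inf_le (centralizer_le (Set.singleton_subset_iff.2 hb)))

/-- At an involution of `U`, the functor is the factor at any involution of `V`. -/
theorem theta_eq_fac (h : Separated U V) {e b : G} (he : e ∈ U) (hb : b ∈ V) (hb1 : b ≠ 1) :
    theta U V e = fac e b := by
  haveI : Fact (Nat.Prime 2) := ⟨Nat.prime_two⟩
  set O := centralizerPPrimeCore 2 e with hO
  have hUO : U ≤ normalizer (O : Set G) :=
    (le_sup_left.trans (h.le_centralizer (mem_sup_left he))).trans (le_normalizer_centralizerPPrimeCore e)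
  have hsolU : Group.IsSolvable ↥U := by
    haveI := h.isPGroup₁.isNilpotent
    infer_instance
  have h1 : ⁅O, U⁆ ⊔ (O ⊓ core' 2 (centralizer (U : Set G))) = O := by
    refine le_antisymm (sup_le (Coprime.commutator_le_left_of_le_normalizer hUO) inf_le_left) ?_
    refine (Coprime.commutator_sup_centralizer hUO (h.coprime₁ (coprime_centralizerPPrimeCore e))
      (Or.inl hsolU)).ge.trans (sup_le_sup_left (le_inf inf_le_left (le_core' inf_le_right ?_
        ((coprime_centralizerPPrimeCore e).coprime_dvd_left (card_dvd_of_le inf_le_left)))) _)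
    exact fun x hx => inf_normalizer_le_normalizer_inf
      ⟨le_normalizer_centralizerPPrimeCore e (centralizer_le (Set.singleton_subset_iff.2 he) hx),
        le_normalizer hx⟩
  have h2 := factor_eq_fac h he hb hb1
  unfold theta
  rw [h1, h2, inf_eq_right]
  exact sup_le (Coprime.commutator_le_left_of_le_normalizer ((zpowers_le.2 hb).trans
    ((le_sup_right.trans (h.le_centralizer (mem_sup_left he))).trans
      (le_normalizer_centralizerPPrimeCore e)))) inf_le_left

end Cfsg.Agent.ProductFusion
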