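import Cfsg.Agent.Lib.ProductFusion.Quad
import Cfsg.Agent.Lib.SSFT.Main

/-!
# The subgroup generated by Goldschmidt's functor, attached to a commuting pair of involutions
-/

set_option autoImplicit false

namespace Cfsg.Agent.ProductFusion

open Subgroup
open scoped commutatorElement Pointwise
open Cfsg (pPrimeCore centralizerPPrimeCore IsComponent)
open Cfsg.Agent.Balance
open Cfsg.Agent.GoldschmidtFunctor

universe u

variable {G : Type u} [Group G]

theorem map_centralizer (φ : G ≃* G) (s : Set G) :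
    (centralizer s).map φ.toMonoidHom = centralizer (φ '' s) := by
  ext x
  obtain ⟨z, rfl⟩ := φ.surjective x
  constructor
  · rintro ⟨w, hw, he⟩
    obtain rfl := φ.injective he
    exact mem_centralizer_iff.2 fun _ ⟨a, ha, e⟩ => by
      rw [← e, ← map_mul, ← map_mul, mem_centralizer_iff.1 hw a ha]
  · exact fun h => mem_map_of_mem φ.toMonoidHom (mem_centralizer_iff.2 fun a ha =>
      φ.injective (by rw [map_mul, map_mul]; exact mem_centralizer_iff.1 h _ ⟨a, ha, rfl⟩))

variable [Finite G]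

theorem map_core' (φ : G ≃* G) (H : Subgroup G) :
    (core' 2 H).map φ.toMonoidHom = core' 2 (H.map φ.toMonoidHom) := by
  have key : ∀ (ψ : G ≃* G) (K : Subgroup G), (core' 2 K).map ψ.toMonoidHom ≤ core' 2 (K.map ψ.toMonoidHom) :=
    fun ψ K => le_core' (map_mono (core'_le K))
      ((map_mono (le_normalizer_core' K)).trans (le_normalizer_map _))
      ((card_map_of_injective (f := ψ.toMonoidHom) ψ.injective).symm ▸ card_core'_coprime K)
  have hmap : ∀ K : Subgroup G, (K.map φ.toMonoidHom).map φ.symm.toMonoidHom = K := fun K => by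
    rw [map_map, show φ.symm.toMonoidHom.comp φ.toMonoidHom = MonoidHom.id G from
      MonoidHom.ext fun x => φ.symm_apply_apply x, map_id]
  refine le_antisymm (key φ H) fun x hx => ?_
  have h2 := key φ.symm (H.map φ.toMonoidHom) (mem_map_of_mem φ.symm.toMonoidHom hx)
  rw [hmap] at h2
  exact ⟨_, h2, φ.apply_symm_apply x⟩

theorem map_centralizerPPrimeCore (φ : G ≃* G) (a : G) :
    (centralizerPPrimeCore 2 a).map φ.toMonoidHom = centralizerPPrimeCore 2 (φ a) := by
  show (core' 2 (centralizer ({a} : Set G))).map φ.toMonoidHom = core' 2 (centralizer ({φ a} : Set G))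
  rw [map_core', map_centralizer, Set.image_singleton]

theorem map_theta (φ : G ≃* G) (U V : Subgroup G) (a : G) :
    (theta U V a).map φ.toMonoidHom = theta (U.map φ.toMonoidHom) (V.map φ.toMonoidHom) (φ a) := by
  simp only [theta, Subgroup.map_inf _ _ φ.toMonoidHom φ.injective, Subgroup.map_sup, map_commutator,
    map_centralizerPPrimeCore, map_core', map_centralizer]
  simp only [Subgroup.coe_map, MulEquiv.toMonoidHom_eq_coe, MonoidHom.coe_coe]

omit [Finite G] in
theorem theta_comm (U V : Subgroup G) (a : G) : theta U V a = theta V U a := inf_comm _ _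

/-- The subgroup generated by the values of the functor. -/
def gen (U V : Subgroup G) : Subgroup G := ⨆ a : {a : G // a ∈ U ⊔ V ∧ a ≠ 1}, theta U V a

theorem map_gen (φ : G ≃* G) (U V : Subgroup G) :
    (gen U V).map φ.toMonoidHom = gen (U.map φ.toMonoidHom) (V.map φ.toMonoidHom) := by
  rw [gen, gen, Subgroup.map_iSup]
  refine le_antisymm (iSup_le fun a => ?_) (iSup_le fun a => ?_)
  · rw [map_theta]
    exact le_iSup_of_le (⟨φ a, by rw [← Subgroup.map_sup]; exact mem_map_of_mem _ a.2.1,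
      fun h => a.2.2 (φ.injective (h.trans φ.map_one.symm))⟩ : {a : G // _}) le_rfl
  · obtain ⟨a, ha, ha1⟩ := a
    rw [← Subgroup.map_sup] at ha
    obtain ⟨b, hb, rfl⟩ := ha
    refine le_iSup_of_le (⟨b, hb, fun h => ha1 (by simp [h])⟩ : {a : G // _}) ?_
    rw [map_theta]
    exact le_rfl

omit [Finite G] in
theorem gen_comm (U V : Subgroup G) : gen U V = gen V U := by
  have h1 : ∀ U V : Subgroup G, gen U V ≤ gen V U := fun U V => iSup_le fun a =>
    le_iSup_of_le (⟨a, sup_comm U V ▸ a.2.1, a.2.2⟩ : {a : G // _}) (theta_comm U V a).le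
  exact le_antisymm (h1 U V) (h1 V U)

variable {P : Sylow 2 G} {S T : Subgroup G}

theorem Four.conj {V : Subgroup G} (h : Four S V) (g : G) : Four S (V.map (MulAut.conj g).toMonoidHom) := by
  refine ⟨⟨⟨⟨?_⟩⟩, ?_⟩, ?_, ?_⟩
  · rintro ⟨_, a, ha, rfl⟩ ⟨_, b, hb, rfl⟩
    refine Subtype.ext ?_
    show MulAut.conj g a * MulAut.conj g b = MulAut.conj g b * MulAut.conj g a
    rw [← map_mul, ← map_mul, (h.commute ha hb).eq]
  · rintro _ ⟨a, ha, rfl⟩
    show MulAut.conj g a ^ 2 = 1
    rw [← map_pow, h.el.2 a ha, map_one]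
  · rw [card_map_of_injective (f := (MulAut.conj g).toMonoidHom) (MulAut.conj g).injective]
    exact h.card
  · rintro _ ⟨a, ha, rfl⟩
    exact (h.inS a ha).conj g

theorem Quad.conj {U V : Subgroup G} (q : Quad S T U V) (g : G) :
    Quad S T (U.map (MulAut.conj g).toMonoidHom) (V.map (MulAut.conj g).toMonoidHom) := by
  refine ⟨q.left.conj g, q.right.conj g, ?_⟩
  rintro _ ⟨a, ha, rfl⟩ _ ⟨b, hb, rfl⟩
  show MulAut.conj g a * MulAut.conj g b = MulAut.conj g b * MulAut.conj g a
  rw [← map_mul, ← map_mul, q.comm a ha b hb]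

theorem Four.not_isCyclic {U : Subgroup G} (h : Four S U) : ¬ IsCyclic U := by
  intro hc
  obtain ⟨g, hg⟩ := hc.exists_ofOrder_eq_natCard
  have h1 : orderOf g ∣ 2 := orderOf_dvd_of_pow_eq_one (Subtype.ext (by simpa using h.el.2 g g.2))
  rw [hg, h.card] at h1
  omega

theorem Four.le_of_mem {U K : Subgroup G} (h : Four S U) {a b : G} (ha : a ∈ U) (hb : b ∈ U) (ha1 : a ≠ 1)
    (hb1 : b ≠ 1) (hab : a ≠ b) (haK : a ∈ K) (hbK : b ∈ K) : U ≤ K := by
  have hia := h.inv ha ha1
  have hib := h.inv hb hb1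
  have hle : fourGroup hia.sq hib.sq (h.commute ha hb).eq ≤ U := by
    intro x hx
    rcases mem_fourGroup.1 hx with rfl | rfl | rfl | rfl
    exacts [one_mem U, ha, hb, mul_mem ha hb]
  have hc : Nat.card U ≤ Nat.card (fourGroup hia.sq hib.sq (h.commute ha hb).eq) := by
    have h1 : a * b ≠ 1 := fun h => hab ((eq_inv_of_mul_eq_one_left h).trans hib.inv_eq)
    have h2 : a * b ≠ a := fun h => hb1 (mul_left_cancel (h.trans (mul_one a).symm))
    have h3 : a * b ≠ b := fun h => ha1 (mul_right_cancel (h.trans (one_mul b).symm))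
    show _ ≤ Nat.card ({1, a, b, a * b} : Set G)
    rw [Nat.card_coe_set_eq, Set.ncard_insert_of_notMem (by simp [ha1.symm, hb1.symm, h1.symm]),
      Set.ncard_insert_of_notMem (by simp [hab, h2.symm]), Set.ncard_pair h3.symm, h.card]
  rw [← Subgroup.eq_of_le_of_card_ge hle hc]
  intro x hx
  rcases mem_fourGroup.1 hx with rfl | rfl | rfl | rfl
  exacts [one_mem K, haK, hbK, mul_mem haK hbK]

theorem Quad.complete (M : Min P S T) {U V : Subgroup G} (q : Quad S T U V) :
    (Nat.card (gen U V)).Coprime 2 ∧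
    (∀ a ∈ U ⊔ V, a ≠ 1 → gen U V ⊓ centralizer ({a} : Set G) ≤ theta U V a) ∧
    U ⊔ V ≤ normalizer (gen U V : Set G) := by
  haveI : Fact (Nat.Prime 2) := ⟨Nat.prime_two⟩
  have h := q.separated M
  have hFT := M.ft
  have hθ : Cfsg.IsSolvableSignalizerFunctor 2 (U ⊔ V) (theta U V) :=
    ⟨h.isSignalizerFunctor hFT, fun a ha _ => hFT _ (Nat.coprime_two_right.1
      ((coprime_centralizerPPrimeCore a).coprime_dvd_left (card_dvd_of_le (h.theta_le_core ha))))⟩
  have hel : Cfsg.IsElementaryAbelian 2 (U ⊔ V : Subgroup G) :=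
    ⟨⟨⟨fun x y => Subtype.ext (h.comm_all x.2 y.2)⟩⟩, fun x hx => h.pow_two hx⟩
  have hcard : 2 ^ 3 ≤ Nat.card (U ⊔ V : Subgroup G) := by
    have hd : Disjoint U V := disjoint_def.2 fun {x} hx hy =>
      M.data.eq_one (q.left.inS x hx) (q.right.inS x hy)
    rw [Coprime.card_sup_of_le_normalizer (fun a ha => centralizer_le_normalizer _
      (mem_centralizer_iff.2 fun b hb => (q.comm a ha b hb).symm)) (disjoint_iff.1 hd), q.left.card, q.right.card]
    norm_num
  obtain ⟨W, ⟨-, hW2, -, hWc⟩, hθW⟩ := SSFT.solvable_signalizer hel hcard hθ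
  have hle : gen U V ≤ W := iSup_le fun a => hθW a a.2.1 a.2.2
  refine ⟨?_, fun a ha ha1 => (inf_le_inf_right _ hle).trans (hWc a ha ha1), fun b hb => ?_⟩
  · exact ((Nat.prime_two.coprime_iff_not_dvd.2 hW2).symm).coprime_dvd_left (card_dvd_of_le hle)
  · rw [mem_normalizer_iff_map_conj_eq, gen, Subgroup.map_iSup]
    exact iSup_congr fun a => mem_normalizer_iff_map_conj_eq.1 (h.theta_invariant a.2.1 hb)

omit [Finite G] in
theorem theta_le_gen {U V : Subgroup G} {a : G} (ha : a ∈ U ⊔ V) (ha1 : a ≠ 1) : theta U V a ≤ gen U V :=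
  le_iSup_of_le (⟨a, ha, ha1⟩ : {a : G // _}) le_rfl

theorem Quad.gen_eq_left (M : Min P S T) {U V : Subgroup G} (q : Quad S T U V) :
    gen U V = ⨆ e : {e : G // e ∈ U ∧ e ≠ 1}, theta U V e := by
  refine le_antisymm ?_ (iSup_le fun e => theta_le_gen (mem_sup_left e.2.1) e.2.2)
  haveI := q.left.el.1
  have h := q.separated M
  have hX : ∀ a ∈ U ⊔ V, a ≠ 1 → theta U V a ≤ ⨆ e : {e : G // e ∈ U ∧ e ≠ 1}, theta U V e := by
    intro a ha ha1
    have hUa : U ≤ normalizer (theta U V a : Set G) := fun b hb => h.theta_invariant ha (mem_sup_left hb)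
    have hcop : (Nat.card U).Coprime (Nat.card (theta U V a)) := h.coprime₁
      ((coprime_centralizerPPrimeCore a).coprime_dvd_left (card_dvd_of_le (h.theta_le_core ha)))
    have := Coprime.eq_of_forall_centralizer_le q.left.not_isCyclic hUa hcop
      (inf_le_left : theta U V a ⊓ (⨆ e : {e : G // e ∈ U ∧ e ≠ 1}, theta U V e) ≤ theta U V a)
      fun e he he1 => le_inf inf_le_left (((h.isSignalizerFunctor M.ft).2.2.2 a ha ha1 e (mem_sup_left he)
        he1).trans (le_iSup_of_le (⟨e, he, he1⟩ : {e : G // _}) le_rfl))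
    exact this.ge.trans inf_le_right
  exact iSup_le fun a => hX a a.2.1 a.2.2

/-- Changing the four-group of `T` while keeping one involution. -/
theorem Quad.gen_eq_of_mem_right (M : Min P S T) {U V V' : Subgroup G} (q : Quad S T U V)
    (q' : Quad S T U V') {b : G} (hb : b ∈ V) (hb' : b ∈ V') (hb1 : b ≠ 1) : gen U V = gen U V' := by
  rw [q.gen_eq_left M, q'.gen_eq_left M]
  exact iSup_congr fun e => by
    rw [theta_eq_fac (q.separated M) e.2.1 hb hb1, theta_eq_fac (q'.separated M) e.2.1 hb' hb1]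

/-- Changing the four-group of `S` while keeping one involution. -/
theorem Quad.gen_eq_of_mem_left (M : Min P S T) {U U' V : Subgroup G} (q : Quad S T U V)
    (q' : Quad S T U' V) {a : G} (ha : a ∈ U) (ha' : a ∈ U') (ha1 : a ≠ 1) : gen U V = gen U' V := by
  rw [gen_comm U, gen_comm U']
  exact q.symm.gen_eq_of_mem_right M.symm q'.symm ha ha' ha1

omit [Finite G] in
theorem conj_pow_of_inverts {u c : G} (hu : u * u = 1) (h : u * c * u = c⁻¹) (m : ℕ) :
    u * c ^ m * u = (c ^ m)⁻¹ := by
  have hu' : u⁻¹ = u := inv_eq_of_mul_eq_one_left hu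
  calc u * c ^ m * u = u * c ^ m * u⁻¹ := by rw [hu']
    _ = (u * c * u⁻¹) ^ m := conj_pow.symm
    _ = _ := by rw [hu', h, inv_pow]

/-- An element of odd order centralising `uv` and inverted by `u` lies in the subgroup of the functor. -/
theorem Quad.mem_gen_of_inverted (M : Min P S T) {U V : Subgroup G} (q : Quad S T U V) {u v c : G}
    (hu : u ∈ U) (hu1 : u ≠ 1) (hv : v ∈ V) (hv1 : v ≠ 1) (hct : Commute c (u * v))
    (hinv : u * c * u = c⁻¹) (hodd : (orderOf c).Coprime 2) : c ∈ gen U V := by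
  have iu := q.left.inv hu hu1
  have iv := q.right.inv hv hv1
  have hne : u * v ≠ 1 := fun h =>
    M.data.ne iu iv ((eq_inv_of_mul_eq_one_left h).trans iv.inv_eq)
  refine theta_le_gen (mul_mem (mem_sup_left hu) (mem_sup_right hv)) hne ?_
  set H := centralizer ({u * v} : Set G) with hH
  obtain ⟨m, hm⟩ := exists_pow_eq_self_of_coprime (n := 2) hodd.symm
  set d := c ^ m with hd
  have hd2 : d * d = c := by rw [hd, ← pow_add, ← two_mul, pow_mul, hm]
  have hdu : u * d * u = d⁻¹ := conj_pow_of_inverts iu.sq hinv m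
  have hud : u * d⁻¹ * u = d := by
    have h1 := congrArg (fun z => z⁻¹) hdu
    simpa [mul_assoc, iu.inv_eq] using h1
  have huv : Commute u v := q.comm u hu v hv
  have hcH : c ∈ H := mem_centralizer_singleton_iff.2 hct.eq
  have huH : u ∈ H := mem_centralizer_singleton_iff.2 ((Commute.refl u).mul_right huv).eq
  have hvH : v ∈ H := mem_centralizer_singleton_iff.2 (huv.symm.mul_right (Commute.refl v)).eq
  have hx : InS S (c * u) := by
    have h1 : d * u * d⁻¹ = c * u := by
      calc d * u * d⁻¹ = d * (u * d⁻¹ * u) * u := by simp [mul_assoc, iu.sq]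
        _ = c * u := by rw [hud, hd2]
    exact h1 ▸ iu.inS.conj d
  have hnc : H ≠ ⊤ := centralizer_singleton_ne_top (M.mul_notMem_center iu iv huv)
  have hvz : ∀ z, Commute z (u * v) → v * z * v = u * z * u := fun z hz => by
    have ht : u * v * (u * v) = 1 := by
      rw [← mul_assoc, mul_assoc u v u, ← huv.eq, ← mul_assoc u u, iu.sq, one_mul, iv.sq]
    calc v * z * v = (u * (u * v)) * z * ((u * v) * u) := by
          rw [← mul_assoc u u, iu.sq, one_mul, show u * v * u = v by rw [huv.eq, mul_assoc, iu.sq, mul_one]]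
      _ = u * (u * v * z * (u * v)) * u := by simp [mul_assoc]
      _ = u * z * u := by rw [← hz.eq, mul_assoc z, ht, mul_one]
  have hc2 : c * c ∈ core' 2 H := by
    refine M.ih H hnc ?_
    have h1 := commutator_mem_commutator (mem_cl (mul_mem hcH huH) hx) (mem_cl hvH (q.right.inS v hv))
    convert h1 using 1
    rw [commutatorElement_def, mul_inv_rev, iu.inv_eq, iv.inv_eq]
    calc c * c = c * (v * c⁻¹ * v) := by
          rw [hvz _ hct.inv_left]
          have h2 := congrArg (fun z => z⁻¹) hinv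
          simp [mul_assoc, iu.inv_eq] at h2
          simp [mul_assoc, h2]
      _ = c * (u * v * u) * c⁻¹ * v := by
          rw [show u * v * u = v by rw [huv.eq, mul_assoc, iu.sq, mul_one]]
          simp [mul_assoc]
      _ = _ := by simp [mul_assoc]
  have hcO : c ∈ centralizerPPrimeCore 2 (u * v) := by
    have h1 : c = (c * c) ^ m := by rw [← sq, hm]
    rw [h1]
    exact pow_mem hc2 m
  have hdO : d ∈ centralizerPPrimeCore 2 (u * v) := pow_mem hcO m
  have hdv : v * d * v = d⁻¹ := by rw [hvz d (hct.pow_left m), hdu]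
  have hvd : v * d⁻¹ * v = d := by
    have h1 := congrArg (fun z => z⁻¹) hdv
    simpa [mul_assoc, iv.inv_eq] using h1
  have key : ∀ w : G, w * w = 1 → w * d⁻¹ * w = d → c = ⁅d, w⁆ := fun w hw hwd => by
    rw [commutatorElement_def, inv_eq_of_mul_eq_one_left hw, mul_assoc, mul_assoc, ← mul_assoc w, hwd, hd2]
  exact mem_inf.2 ⟨mem_sup_left (key u iu.sq hud ▸ commutator_mem_commutator hdO hu),
    mem_sup_left (key v iv.sq hvd ▸ commutator_mem_commutator hdO hv)⟩

/-- The subgroup of the functor does not depend on the four-groups containing two given involutions. -/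
theorem Quad.gen_eq (M : Min P S T) {U V U' V' : Subgroup G} (q : Quad S T U V) (q' : Quad S T U' V')
    {x y : G} (hx : x ∈ U) (hx' : x ∈ U') (hx1 : x ≠ 1) (hy : y ∈ V) (hy' : y ∈ V') (hy1 : y ≠ 1) :
    gen U V = gen U' V' := by
  haveI : Fact (Nat.Prime 2) := ⟨Nat.prime_two⟩
  set H := centralizer ({x} : Set G) ⊓ centralizer ({y} : Set G) with hH
  have hle : ∀ {A B : Subgroup G}, Quad S T A B → x ∈ A → y ∈ B → A ≤ H ∧ B ≤ H := fun {A B} r hxA hyB =>
    ⟨fun a ha => ⟨mem_centralizer_singleton_iff.2 (r.left.commute ha hxA).eq,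
        mem_centralizer_singleton_iff.2 (r.comm a ha y hyB)⟩,
      fun b hb => ⟨mem_centralizer_singleton_iff.2 (r.comm x hxA b hb).symm,
        mem_centralizer_singleton_iff.2 (r.right.commute hb hyB).eq⟩⟩
  obtain ⟨hUH, -⟩ := hle q hx hy
  obtain ⟨hU'H, hV'H⟩ := hle q' hx' hy'
  have hHne : H ≠ ⊤ := fun h => centralizer_singleton_ne_top (M.ncS x (q.left.inv hx hx1))
    (top_le_iff.1 (h ▸ inf_le_left))
  set O := core' 2 H with hO
  have hOodd : (Nat.card O).Coprime 2 := card_core'_coprime H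
  have hcomm : ⁅U, V'⁆ ≤ O := (commutator_mono (le_cl_of_le hUH q.left.inS)
    (le_cl_of_le hV'H q'.right.inS)).trans (M.ih H hHne)
  have hcop : ∀ {A : Subgroup G}, Nat.card A = 4 → (Nat.card A).Coprime (Nat.card O) := fun hA =>
    hA ▸ (hOodd.pow_right 2).symm
  have hUN : U ≤ normalizer (O : Set G) := hUH.trans (le_normalizer_core' H)
  have hV'N : V' ≤ normalizer (O : Set G) := hV'H.trans (le_normalizer_core' H)
  have hsol : ∀ {R A : Subgroup G}, Four R A → Group.IsSolvable A := fun hA => by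
    haveI := hA.isPGroup.isNilpotent
    infer_instance
  obtain ⟨k, hk, hkN⟩ := Coprime.exists_conj_le_of_le_mul (W := normalizer (U : Set G)) hV'N
    (hcop q'.right.card) (Or.inl (hsol q'.right)) fun a ha => by
      have hB : U.map (MulAut.conj a).toMonoidHom ≤ U ⊔ O := by
        rintro _ ⟨u, hu, rfl⟩
        rw [show (MulAut.conj a).toMonoidHom u = u * ⁅u⁻¹, a⁆ by
          simp [commutatorElement_def, MulAut.conj_apply, mul_assoc]]
        exact mul_mem (mem_sup_left hu) (mem_sup_right (hcomm (commutator_mem_commutator (inv_mem hu) ha)))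
      have hBc : Nat.card (U.map (MulAut.conj a).toMonoidHom) = Nat.card U :=
        card_map_of_injective (f := (MulAut.conj a).toMonoidHom) (MulAut.conj a).injective
      obtain ⟨n, hn, hnB⟩ := Coprime.exists_le_conj_of_le_sup hUN hB (hcop q.left.card)
        (hBc ▸ hcop q.left.card) (Or.inl (hsol q.left))
      refine ⟨n, hn, mem_normalizer_iff_map_conj_eq.2 (Subgroup.eq_of_le_of_card_ge ?_ ?_)⟩
      · rintro _ ⟨u, hu, rfl⟩
        have h1 := Coprime.mem_conj_smul_iff.1 (hnB (mem_map_of_mem _ hu))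
        simpa [MulAut.conj_apply, mul_assoc] using h1
      · exact (card_map_of_injective (f := (MulAut.conj (n⁻¹ * a)).toMonoidHom) (MulAut.conj (n⁻¹ * a)).injective).ge
  obtain ⟨g, hgO, hgU⟩ : ∃ g ∈ O, V'.map (MulAut.conj g).toMonoidHom ≤ normalizer (U : Set G) := by
    refine ⟨k⁻¹, inv_mem hk, ?_⟩
    rintro _ ⟨b, hb, rfl⟩
    have h1 := Coprime.mem_conj_smul_iff.1 (hkN hb)
    simpa [MulAut.conj_apply, mul_assoc] using h1
  set V'' := V'.map (MulAut.conj g).toMonoidHom with hV''
  have hgH : g ∈ H := core'_le H hgO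
  have hgx : MulAut.conj g x = x := by
    rw [MulAut.conj_apply, mem_centralizer_singleton_iff.1 (mem_inf.1 hgH).1, mul_inv_cancel_right]
  have hgy : MulAut.conj g y = y := by
    rw [MulAut.conj_apply, mem_centralizer_singleton_iff.1 (mem_inf.1 hgH).2, mul_inv_cancel_right]
  have hxU'' : x ∈ U'.map (MulAut.conj g).toMonoidHom := hgx ▸ mem_map_of_mem _ hx'
  have hyV'' : y ∈ V'' := hgy ▸ mem_map_of_mem _ hy'
  have hQ : IsPGroup 2 (U ⊔ V'' : Subgroup G) :=
    (q.left.isPGroup).to_sup_of_normal_left' (q'.right.conj g).isPGroup hgU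
  have q'' : Quad S T U V'' := ⟨q.left, q'.right.conj g, fun a ha b hb =>
    (M.data.commute hQ (mem_sup_left ha) (mem_sup_right hb) (q.left.inS a ha)
      ((q'.right.conj g).inS b hb)).eq⟩
  rw [q.gen_eq_of_mem_right M q'' hy hyV'' hy1, q''.gen_eq_of_mem_left M (q'.conj g) hx hxU'' hx1,
    hV'', ← map_gen]
  -- `O` normalises `gen U' V'`
  refine mem_normalizer_iff_map_conj_eq.1 ?_
  suffices hON : O ≤ normalizer (gen U' V' : Set G) from hON hgO
  have fix : ∀ {R A : Subgroup G} {a : G}, Four R A → a ∈ A → a ≠ 1 → ∀ z, z ∈ A → z ≠ 1 → a ≠ z →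
      ∀ c : G, Commute c a → Commute c z → A.map (MulAut.conj c).toMonoidHom = A := by
    intro R A a hA ha ha1 z hz hz1 haz c hca hcz
    refine mem_normalizer_iff_map_conj_eq.1 (centralizer_le_normalizer _ (mem_centralizer_iff.2 fun w hw => ?_))
    exact mem_centralizer_singleton_iff.1 (hA.le_of_mem ha hz ha1 hz1 haz
      (mem_centralizer_singleton_iff.2 hca.eq.symm) (mem_centralizer_singleton_iff.2 hcz.eq.symm) hw)
  have hcx : ∀ c ∈ O, Commute c x ∧ Commute c y := fun c hc =>
    ⟨mem_centralizer_singleton_iff.1 (mem_inf.1 (core'_le H hc)).1,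
      mem_centralizer_singleton_iff.1 (mem_inf.1 (core'_le H hc)).2⟩
  obtain ⟨u, hu, hu1, hux⟩ := q'.left.exists_ne x
  obtain ⟨v, hv, hv1, hvy⟩ := q'.right.exists_ne y
  have hCu : ∀ c ∈ O, Commute c u → c ∈ normalizer (gen U' V' : Set G) := fun c hc hcu => by
    refine mem_normalizer_iff_map_conj_eq.2 ?_
    have e := fix q'.left hx' hx1 u hu hu1 hux.symm c (hcx c hc).1 hcu
    show (gen U' V').map (MulAut.conj c).toMonoidHom = _
    rw [map_gen, e]
    have qc : Quad S T U' (V'.map (MulAut.conj c).toMonoidHom) := e ▸ q'.conj c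
    exact qc.gen_eq_of_mem_right M q' (b := y)
      ⟨y, hy', by simp [(hcx c hc).2.eq]⟩ hy' hy1
  have hCv : ∀ c ∈ O, Commute c v → c ∈ normalizer (gen U' V' : Set G) := fun c hc hcv => by
    refine mem_normalizer_iff_map_conj_eq.2 ?_
    have e := fix q'.right hy' hy1 v hv hv1 hvy.symm c (hcx c hc).2 hcv
    show (gen U' V').map (MulAut.conj c).toMonoidHom = _
    rw [map_gen, e]
    have qc : Quad S T (U'.map (MulAut.conj c).toMonoidHom) V' := e ▸ q'.conj c
    exact qc.gen_eq_of_mem_left M q' (a := x)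
      ⟨x, hx', by simp [(hcx c hc).1.eq]⟩ hx' hx1
  have iu := q'.left.inv hu hu1
  have iv := q'.right.inv hv hv1
  have huv : u * v = v * u := q'.comm u hu v hv
  set E := fourGroup iu.sq iv.sq huv with hE
  have hEle : E ≤ U' ⊔ V' := fun z hz => by
    rcases mem_fourGroup.1 hz with rfl | rfl | rfl | rfl
    exacts [one_mem _, mem_sup_left hu, mem_sup_right hv, mul_mem (mem_sup_left hu) (mem_sup_right hv)]
  haveI : IsMulCommutative E :=
    ⟨⟨fun a b => Subtype.ext ((q'.separated M).comm_all (hEle a.2) (hEle b.2))⟩⟩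
  have hEc : Nat.card E = 4 := by
    have hne : u ≠ v := M.data.ne iu iv
    have h1 : u * v ≠ 1 := fun h => hne ((eq_inv_of_mul_eq_one_left h).trans iv.inv_eq)
    have h2 : u * v ≠ u := fun h => hv1 (mul_left_cancel (h.trans (mul_one u).symm))
    have h3 : u * v ≠ v := fun h => hu1 (mul_right_cancel (h.trans (one_mul v).symm))
    show Nat.card ({1, u, v, u * v} : Set G) = 4
    rw [Nat.card_coe_set_eq, Set.ncard_insert_of_notMem (by simp [hu1.symm, hv1.symm, h1.symm]),
      Set.ncard_insert_of_notMem (by simp [hne, h2.symm]), Set.ncard_pair h3.symm]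
  have hEnc : ¬ IsCyclic E := by
    intro hc
    obtain ⟨z, hz⟩ := hc.exists_ofOrder_eq_natCard
    have h1 : orderOf z ∣ 2 := orderOf_dvd_of_pow_eq_one (Subtype.ext (by
      simpa using (q'.separated M).pow_two (hEle z.2)))
    rw [hz, hEc] at h1
    omega
  have hgen := Coprime.eq_of_forall_centralizer_le hEnc
    (hEle.trans ((sup_le hU'H hV'H).trans (le_normalizer_core' H))) (hcop hEc)
    (inf_le_left : O ⊓ normalizer (gen U' V' : Set G) ≤ O) fun a ha ha1 => ?_
  · exact hgen.ge.trans inf_le_right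
  rintro o ⟨hoO, hoa⟩
  refine ⟨hoO, ?_⟩
  have hoa' : Commute o a := mem_centralizer_singleton_iff.1 hoa
  rcases mem_fourGroup.1 ha with rfl | rfl | rfl | rfl
  · exact absurd rfl ha1
  · exact hCu o hoO hoa'
  · exact hCv o hoO hoa'
  -- split `o` into a part fixed and a part inverted by `u`
  set c := o⁻¹ * (u * o * u) with hc
  have huo : u * o * u ∈ O := by
    have h1 := (mem_normalizer_iff.1 (le_normalizer_core' H (hU'H hu)) o).1 hoO
    rwa [iu.inv_eq] at h1
  have hcO : c ∈ O := mul_mem (inv_mem hoO) huo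
  have hcinv : u * c * u = c⁻¹ := by
    rw [hc, mul_inv_rev, inv_inv, mul_inv_rev, mul_inv_rev, iu.inv_eq]
    simp [mul_assoc, iu.sq]
  have hcodd : (orderOf c).Coprime 2 := hOodd.coprime_dvd_left (Subgroup.orderOf_dvd_natCard O hcO)
  obtain ⟨m, hm⟩ := exists_pow_eq_self_of_coprime (n := 2) hcodd.symm
  set j := c ^ m with hj
  have hj2 : j * j = c := by rw [hj, ← pow_add, ← two_mul, pow_mul, hm]
  have hju : u * j * u = j⁻¹ := conj_pow_of_inverts iu.sq hcinv m
  have hjW : j ∈ gen U' V' := by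
    refine q'.mem_gen_of_inverted M hu hu1 hv hv1 ?_ hju
      (hOodd.coprime_dvd_left (Subgroup.orderOf_dvd_natCard O (pow_mem hcO m)))
    have hut : Commute u (u * v) := (Commute.refl u).mul_right huv
    exact Commute.pow_left (hoa'.inv_left.mul_left ((hut.mul_left hoa').mul_left hut)) m
  have hoj : Commute (o * j) u := by
    have h1 : u * (o * j) * u = o * j := by
      calc u * (o * j) * u = o * (o⁻¹ * (u * o * u)) * (u * j * u) := by simp [mul_assoc, ← mul_assoc u u, iu.sq]
        _ = o * j := by rw [← hc, hju, ← hj2, mul_assoc, mul_inv_cancel_right]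
    show o * j * u = u * (o * j)
    calc o * j * u = u * (o * j) * u * u := by rw [h1]
      _ = u * (o * j) := by rw [mul_assoc, iu.sq, mul_one]
  have h2 := mul_mem (hCu _ (mul_mem hoO (pow_mem hcO m)) hoj) (inv_mem (le_normalizer hjW))
  rwa [mul_inv_cancel_right] at h2

end Cfsg.Agent.ProductFusion
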